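import Cfsg.Agent.Lib.OddTrans.Exists
import Cfsg.Agent.Lib.LinearGroups.Basic
import Cfsg.Agent.Lib.Forms.Alt

/-!
Assembling the components of a transvection group into a direct decomposition.
-/

set_option autoImplicit false

namespace Cfsg.Agent.OddTrans

variable {p : ℕ} [Fact p.Prime] {V : Type*} [AddCommGroup V] [Module (ZMod p) V]
variable {H : Subgroup (V ≃ₗ[ZMod p] V)}

section SL

variable {U : Type*} [AddCommGroup U] [Module (ZMod p) U] [Module.Finite (ZMod p) U]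

/-- A group containing all transvections contains all maps of determinant one. -/
theorem mem_of_det_one {K : Subgroup (U ≃ₗ[ZMod p] U)}
    (hK : ∀ (f : Module.Dual (ZMod p) U) (v : U) (_ : f v = 0) (g : U ≃ₗ[ZMod p] U),
      (∀ x, g x = x + f x • v) → g ∈ K)
    {g : U ≃ₗ[ZMod p] U} (hg : LinearMap.det (g : U →ₗ[ZMod p] U) = 1) : g ∈ K := by
  obtain ⟨b⟩ : Nonempty (Module.Basis (Fin (Module.finrank (ZMod p) U)) (ZMod p) U) :=
    ⟨Module.finBasis (ZMod p) U⟩
  let n := Fin (Module.finrank (ZMod p) U)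
  have e₁ : ∀ A : Matrix.SpecialLinearGroup n (ZMod p),
      Matrix.toLin b b (A : Matrix n n (ZMod p)) ∘ₗ Matrix.toLin b b (A⁻¹ : Matrix.SpecialLinearGroup n (ZMod p)) =
        LinearMap.id := fun A => by
    rw [← Matrix.toLin_mul, ← Matrix.SpecialLinearGroup.coe_mul, mul_inv_cancel,
      Matrix.SpecialLinearGroup.coe_one, Matrix.toLin_one]
  let Φ : Matrix.SpecialLinearGroup n (ZMod p) →* (U ≃ₗ[ZMod p] U) :=
    { toFun := fun A => LinearEquiv.ofLinearMap (Matrix.toLin b b (A : Matrix n n (ZMod p)))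
        (Matrix.toLin b b (A⁻¹ : Matrix.SpecialLinearGroup n (ZMod p))) (e₁ A)
        (by have := e₁ A⁻¹; rwa [inv_inv] at this)
      map_one' := LinearEquiv.ext fun x => by
        show Matrix.toLin b b ((1 : Matrix.SpecialLinearGroup n (ZMod p)) : Matrix n n (ZMod p)) x = x
        rw [Matrix.SpecialLinearGroup.coe_one, Matrix.toLin_one]; rfl
      map_mul' := fun A B => LinearEquiv.ext fun x => by
        show Matrix.toLin b b ((A * B : Matrix.SpecialLinearGroup n (ZMod p)) : Matrix n n (ZMod p)) x = _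
        rw [Matrix.SpecialLinearGroup.coe_mul, Matrix.toLin_mul b b b]; rfl }
  have hΦ : ∀ A, Φ A ∈ K := by
    intro A
    have hA : A ∈ Subgroup.closure (LinGrp.transvectionSet (n := n) (F := ZMod p)) := by
      rw [LinGrp.closure_transvectionSet]; trivial
    induction hA using Subgroup.closure_induction with
    | mem x hx =>
      obtain ⟨i, j, hij, a, rfl⟩ := hx
      refine hK (a • b.coord j) (b i) (by simp [hij]) _ fun x => ?_
      show Matrix.toLin b b ((Matrix.SpecialLinearGroup.transvection hij a : Matrix.SpecialLinearGroup n (ZMod p)) : Matrix n n (ZMod p)) x = _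
      have hs : Matrix.toLin b b (Matrix.single i j a) = (a • b.coord j).smulRight (b i) := by
        refine b.ext fun l => ?_
        rw [Matrix.toLin_self, Finset.sum_eq_single i]
        · by_cases hl : j = l
          · subst hl; simp
          · simp [Matrix.single_apply_of_col_ne, hl, Ne.symm hl, Finsupp.single_apply]
        · intro k _ hk
          simp [Matrix.single_apply, Ne.symm hk]
        · intro h; exact absurd (Finset.mem_univ i) h
      rw [Matrix.SpecialLinearGroup.transvection_coe, map_add, Matrix.toLin_one, LinearMap.add_apply,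
        LinearMap.id_apply, hs, LinearMap.smulRight_apply]
    | one => rw [map_one]; exact K.one_mem
    | mul x y _ _ hx hy => rw [map_mul]; exact K.mul_mem hx hy
    | inv x _ hx => rw [map_inv]; exact K.inv_mem hx
  have hd : (LinearMap.toMatrix b b (g : U →ₗ[ZMod p] U)).det = 1 := by
    rw [LinearMap.det_toMatrix]; exact hg
  have : Φ ⟨_, hd⟩ = g := LinearEquiv.ext fun x => by
    show Matrix.toLin b b (LinearMap.toMatrix b b (g : U →ₗ[ZMod p] U)) x = g x
    rw [Matrix.toLin_toMatrix]; rfl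
  exact this ▸ hΦ _

end SL

variable {U C : Submodule (ZMod p) V}

theorem Comp.ne_self (K : Comp H U C) {v : V} {φ : Module.Dual (ZMod p) V} (hv : v ≠ 0)
    (h : Inside U C v φ) : ¬ Inside C U v φ := fun h' =>
  hv (Submodule.disjoint_def.1 K.compl.disjoint v h.1 h'.1)

theorem subset_of_two {A B W : Submodule (ZMod p) V} (h : ∀ x ∈ A, x ∈ B ∨ x ∈ W) :
    A ≤ B ∨ A ≤ W := by
  by_contra hc
  push Not at hc
  obtain ⟨a, ha, haB⟩ := SetLike.not_le_iff_exists.1 hc.1
  obtain ⟨b, hb, hbW⟩ := SetLike.not_le_iff_exists.1 hc.2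
  have haW := (h a ha).resolve_left haB
  have hbB := (h b hb).resolve_right hbW
  rcases h (a + b) (A.add_mem ha hb) with h' | h'
  · exact haB (by simpa using B.sub_mem h' hbB)
  · exact hbW (by simpa using W.sub_mem h' haW)

theorem Comp.le_or (K : Comp H U C) {U' C' : Submodule (ZMod p) V} (K' : Comp H U' C') :
    U ≤ U' ∨ U ≤ C' :=
  subset_of_two fun x hx => by
    by_cases h : x = 0
    · exact Or.inl (h ▸ U'.zero_mem)
    obtain ⟨φ, hφ, hP, -⟩ := K.axis x hx h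
    exact (K'.dich x φ hP h hφ).imp (·.1) (·.1)

theorem Comp.orth (K : Comp H U C) {U' C' : Submodule (ZMod p) V} (K' : Comp H U' C')
    (h : U ≠ U') : U ≤ C' := by
  rcases K.le_or K' with h1 | h1
  · rcases K'.le_or K with h2 | h2
    · exact absurd (le_antisymm h1 h2) h
    · have hU : U = ⊥ := by
        rw [Submodule.eq_bot_iff]
        exact fun x hx => Submodule.disjoint_def.1 K.compl.disjoint x hx (h2 (h1 hx))
      rw [hU]; exact bot_le
  · exact h1

theorem Comp.le_C (K : Comp H U C) {C' : Submodule (ZMod p) V} (K' : Comp H U C') : C ≤ C' := by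
  intro c hc
  obtain ⟨u, hu, c', hc', rfl⟩ :=
    Submodule.mem_sup.1 (codisjoint_iff.1 K'.compl.codisjoint ▸ Submodule.mem_top (x := c))
  suffices u = 0 by rw [this, zero_add]; exact hc'
  by_contra hu0
  obtain ⟨v, φ, hv, hP, hin, hφu⟩ := K'.sep u hu hu0
  rcases K.dich v φ hP hv (fun h => hφu (by rw [h]; rfl)) with h1 | h1
  · exact hφu (by simpa [map_add, hin.2 c' hc'] using h1.2 _ hc)
  · exact hv (Submodule.disjoint_def.1 K.compl.disjoint v hin.1 h1.1)

/-- Restriction to an invariant subspace. -/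
def restrHom (K : Subgroup (V ≃ₗ[ZMod p] V)) (U : Submodule (ZMod p) V)
    (h : ∀ g ∈ K, ∀ u ∈ U, g u ∈ U) : ↥K →* (↥U ≃ₗ[ZMod p] ↥U) where
  toFun g := LinearEquiv.ofLinearMap ((g : V ≃ₗ[ZMod p] V).toLinearMap.restrict (h g g.2))
    ((g⁻¹ : K).1.toLinearMap.restrict (h _ (g⁻¹).2))
    (LinearMap.ext fun u => Subtype.ext ((g : V ≃ₗ[ZMod p] V).apply_symm_apply u))
    (LinearMap.ext fun u => Subtype.ext ((g : V ≃ₗ[ZMod p] V).symm_apply_apply u))
  map_one' := LinearEquiv.ext fun _ => rfl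
  map_mul' _ _ := LinearEquiv.ext fun _ => rfl

/-- The elements of `H` fixing `C` pointwise. -/
def part (H : Subgroup (V ≃ₗ[ZMod p] V)) (C : Submodule (ZMod p) V) : Subgroup (V ≃ₗ[ZMod p] V) where
  carrier := {g | g ∈ H ∧ ∀ c ∈ C, g c = c}
  one_mem' := ⟨H.one_mem, fun _ _ => rfl⟩
  mul_mem' := fun {a b} ha hb => ⟨H.mul_mem ha.1 hb.1, fun c hc => by
    show a (b c) = c
    rw [hb.2 c hc, ha.2 c hc]⟩
  inv_mem' := fun {a} ha => ⟨H.inv_mem ha.1, fun c hc => by
    show a.symm c = c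
    rw [LinearEquiv.symm_apply_eq, ha.2 c hc]⟩

variable [Finite V]

theorem Comp.inv (K : Comp H U C) (S : Setup H) : Inv H U ∧ Inv H C := by
  constructor <;> refine S.inv_of_tin fun v φ hP a ha => ?_ <;>
    by_cases hv : v = 0
  · simp [hv]
  · by_cases hφ : φ = 0
    · simp [hφ]
    rcases K.dich v φ hP hv hφ with h | h
    · exact U.smul_mem _ h.1
    · rw [h.2 a ha, zero_smul]; exact U.zero_mem
  · simp [hv]
  · by_cases hφ : φ = 0
    · simp [hφ]
    rcases K.dich v φ hP hv hφ with h | h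
    · rw [h.2 a ha, zero_smul]; exact C.zero_mem
    · exact C.smul_mem _ h.1

theorem Comp.range (K : Comp H U C) (S : Setup H) :
    ∃ ρ : ↥(part H C) →* (↥U ≃ₗ[ZMod p] ↥U),
      (∀ (h : ↥(part H C)) (v : ↥U), ((ρ h v : ↥U) : V) = (h : V ≃ₗ[ZMod p] V) (v : V)) ∧
      ((ρ.range : Set (↥U ≃ₗ[ZMod p] ↥U)) =
          {f : ↥U ≃ₗ[ZMod p] ↥U | LinearMap.det (f : ↥U →ₗ[ZMod p] ↥U) = 1} ∨
        ∃ B : LinearMap.BilinForm (ZMod p) ↥U, B.IsAlt ∧ B.Nondegenerate ∧
          (ρ.range : Set (↥U ≃ₗ[ZMod p] ↥U)) = {f : ↥U ≃ₗ[ZMod p] ↥U | ∀ x y, B (f x) (f y) = B x y}) := by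
  obtain ⟨hU, -⟩ := K.inv S
  obtain ⟨ρ, hρ⟩ : ∃ ρ, ρ = restrHom (part H C) U (fun g hg => hU g hg.1) := ⟨_, rfl⟩
  obtain ⟨ρH, hρH⟩ : ∃ r, r = restrHom H U hU := ⟨_, rfl⟩
  have hag : ∀ g : part H C, ρ g = ρH ⟨g, g.2.1⟩ := fun g => by
    rw [hρ, hρH]; exact LinearEquiv.ext fun _ => rfl
  refine ⟨ρ, fun g v => by rw [hρ]; rfl, ?_⟩
  obtain ⟨π, hπ⟩ : ∃ π, π = U.projectionOnto C K.compl := ⟨_, rfl⟩
  have π1 : ∀ u : U, π u = u := fun u => by rw [hπ]; exact Submodule.projectionOnto_apply_left _ u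
  have π2 : ∀ c ∈ C, π c = 0 := fun c hc => by
    rw [hπ]; exact (Submodule.projectionOnto_apply_eq_zero_iff _).2 hc
  have lift : ∀ (f : Module.Dual (ZMod p) U) (v : U) (φ : Module.Dual (ZMod p) V),
      Tin H v φ → (∀ c ∈ C, φ c = 0) → (∀ u : U, φ u = f u) → ∀ g : U ≃ₗ[ZMod p] U,
      (∀ x, g x = x + f x • v) → g ∈ ρ.range := by
    intro f v φ ⟨d, t, ht, e⟩ hC hf g hg
    refine ⟨⟨t, ht, fun c hc => by rw [e, hC c hc, zero_smul, add_zero]⟩, LinearEquiv.ext fun x => ?_⟩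
    refine Subtype.ext ?_
    rw [hρ, hg]
    show t x = _
    rw [e, hf]
    rfl
  rcases K.kind with hk | ⟨β, halt, hrad, hC, htin, hins⟩
  · left
    refine Set.Subset.antisymm ?_ fun g hg => mem_of_det_one (K := ρ.range) (fun f v hfv g hg' =>
      lift f v (f ∘ₗ π) (hk v v.2 _ (fun c hc => by simp [π2 c hc]) (by simp [π1, hfv]))
        (fun c hc => by simp [π2 c hc]) (fun u => by simp [π1]) g hg') hg
    rintro _ ⟨g, rfl⟩
    obtain ⟨D, hD⟩ : ∃ D : H →* (ZMod p)ˣ, D = LinearEquiv.det.comp ρH := ⟨_, rfl⟩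
    have hker : ∀ h (hh : h ∈ H), D ⟨h, hh⟩ = 1 := by
      have hgen : H ≤ (D.ker.map H.subtype) := by
        refine S.gen.trans ((Subgroup.closure_le _).2 ?_)
        rintro t ⟨v, φ, hP, e⟩
        obtain ⟨d, t', ht', e'⟩ := hP
        obtain rfl : t = t' := LinearEquiv.ext fun x => by rw [e, e']
        refine ⟨⟨t, ht'⟩, ?_, rfl⟩
        have hpow : ∀ (n : ℕ) (x : V), (t ^ n) x = x + ((n : ZMod p) * φ x) • v := by
          intro n
          induction n with
          | zero => simp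
          | succ n ih =>
            intro x
            rw [pow_succ, LinearEquiv.mul_apply, e, ih, map_add, map_smul, d, smul_zero, add_zero,
              Nat.cast_succ]
            module
        have h1 : (⟨t, ht'⟩ : H) ^ p = 1 := Subtype.ext (LinearEquiv.ext fun x => by
          rw [SubgroupClass.coe_pow, hpow, ZMod.natCast_self, zero_mul, zero_smul, add_zero]; rfl)
        refine MonoidHom.mem_ker.2 (Units.ext ?_)
        rw [← ZMod.pow_card ((D ⟨t, ht'⟩ : (ZMod p)ˣ) : ZMod p), ← Units.val_pow_eq_pow_val,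
          ← map_pow, h1, map_one]
      intro h hh
      obtain ⟨x, hx, hxe⟩ := hgen hh
      rw [show (⟨h, hh⟩ : H) = x from Subtype.ext hxe.symm]
      exact hx
    have := congrArg Units.val (hker g g.2.1)
    rw [hD] at this
    simp only [MonoidHom.comp_apply, LinearEquiv.coe_det, Units.val_one] at this
    rw [Set.mem_setOf_eq, hag]
    exact this
  · right
    obtain ⟨B, hB⟩ : ∃ B : LinearMap.BilinForm (ZMod p) U,
        B = (LinearMap.lcomp (ZMod p) (ZMod p) U.subtype) ∘ₗ β ∘ₗ U.subtype := ⟨_, rfl⟩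
    have hBe : ∀ x y : U, B x y = β x y := fun x y => by simp [hB]
    have hA : LinearMap.IsAlt B := fun x => by rw [hBe]; exact halt x x.2
    have hN : LinearMap.Nondegenerate B := by
      constructor
      · intro x hx
        exact Subtype.ext (hrad x x.2 fun y hy => by have := hx ⟨y, hy⟩; rwa [hBe] at this)
      · intro y hy
        refine Subtype.ext (hrad y y.2 fun z hz => ?_)
        have := hy ⟨z, hz⟩
        rwa [FormsLib.alt_swap hA, neg_eq_zero, hBe] at this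
    refine ⟨B, hA, hN, Set.Subset.antisymm ?_ fun g hg => ?_⟩
    · rintro _ ⟨g, rfl⟩
      have key : H ≤ ((FormsLib.isoGroup B).comap ρH).map H.subtype := by
        refine S.gen.trans ((Subgroup.closure_le _).2 ?_)
        rintro t ⟨v, φ, hP, e⟩
        obtain ⟨d, t', ht', e'⟩ := hP
        obtain rfl : t = t' := LinearEquiv.ext fun x => by rw [e, e']
        refine ⟨⟨t, ht'⟩, fun x y => ?_, rfl⟩
        rw [hBe, hBe, hρH]
        show β (t x) (t y) = β x y
        rw [e, e]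
        by_cases hv : v = 0
        · simp [hv]
        by_cases hφ : φ = 0
        · simp [hφ]
        rcases K.dich v φ ⟨d, t, ht', e⟩ hv hφ with h | h
        · obtain ⟨k, rfl⟩ := hins v φ ⟨d, t, ht', e⟩ hv h
          simp only [map_add, map_smul, LinearMap.add_apply, LinearMap.smul_apply, smul_eq_mul,
            halt v h.1, skew_of_alt halt h.1 x.2]
          ring
        · simp [h.2 x x.2, h.2 y y.2]
      obtain ⟨h, hh, he⟩ := key g.2.1
      have hgh : (⟨g, g.2.1⟩ : H) = h := Subtype.ext he.symm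
      rw [Set.mem_setOf_eq, hag, hgh]
      exact hh
    · have hg' : g ∈ FormsLib.tauGroup hA := by rw [FormsLib.tauGroup_eq hA hN]; exact hg
      refine (?_ : FormsLib.tauGroup hA ≤ ρ.range) hg'
      refine (Subgroup.closure_le _).2 ?_
      rintro _ ⟨w, c, rfl⟩
      refine lift (c • B.flip w) w ((-c) • β w) ((htin w w.2).smulR _)
        (fun x hx => by simp [hC w w.2 x hx]) (fun u => ?_) _ (fun x => ?_)
      · simp [hBe, skew_of_alt halt u.2 w.2]
      · simp

theorem Setup.assemble (S : Setup H) {n : ℕ} (hn : 1 ≤ n) (U C : Fin n → Submodule (ZMod p) V)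
    (hc : ∀ j, IsCompl (U j) (C j)) (hUC : ∀ i j, i ≠ j → U i ≤ C j)
    (hU : ∀ j, Inv H (U j)) (hC : ∀ j, Inv H (C j)) (hgen : H ≤ ⨆ j, part H (C j))
    (hr : ∀ j, ∃ ρ : ↥(part H (C j)) →* (↥(U j) ≃ₗ[ZMod p] ↥(U j)),
      (∀ (h : ↥(part H (C j))) (v : ↥(U j)), ((ρ h v : ↥(U j)) : V) = (h : V ≃ₗ[ZMod p] V) (v : V)) ∧
      ((ρ.range : Set (↥(U j) ≃ₗ[ZMod p] ↥(U j))) =
          {f : ↥(U j) ≃ₗ[ZMod p] ↥(U j) | LinearMap.det (f : ↥(U j) →ₗ[ZMod p] ↥(U j)) = 1} ∨
        ∃ B : LinearMap.BilinForm (ZMod p) ↥(U j), B.IsAlt ∧ B.Nondegenerate ∧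
          (ρ.range : Set (↥(U j) ≃ₗ[ZMod p] ↥(U j))) =
            {f : ↥(U j) ≃ₗ[ZMod p] ↥(U j) | ∀ x y, B (f x) (f y) = B x y})) :
    ∃ (n : ℕ) (W : Fin (n + 1) → Submodule (ZMod p) V) (K : Fin n → Subgroup (V ≃ₗ[ZMod p] V)),
      1 ≤ n ∧ DirectSum.IsInternal W ∧
      (∀ h ∈ H, ∀ i, (W i).map (h : V →ₗ[ZMod p] V) = W i) ∧
      (∀ j, K j ≤ H ∧ ((K j).subgroupOf H).Normal) ∧ ⨆ j, K j = H ∧
      (∀ j, K j ⊓ (⨆ j' ∈ {j' : Fin n | j' ≠ j}, K j') = ⊥) ∧
      (∀ j j', j ≠ j' → ∀ a ∈ K j, ∀ b ∈ K j', a * b = b * a) ∧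
      (∀ j, ∀ h ∈ K j, ∀ i : Fin (n + 1), i ≠ j.succ → ∀ v ∈ W i, h v = v) ∧
      (∀ j, ∃ ρ : ↥(K j) →* (↥(W j.succ) ≃ₗ[ZMod p] ↥(W j.succ)),
        (∀ (h : ↥(K j)) (v : ↥(W j.succ)), ((ρ h v : ↥(W j.succ)) : V) = (h : V ≃ₗ[ZMod p] V) (v : V)) ∧
        ((ρ.range : Set (↥(W j.succ) ≃ₗ[ZMod p] ↥(W j.succ))) =
            {f : ↥(W j.succ) ≃ₗ[ZMod p] ↥(W j.succ) | LinearMap.det (f : ↥(W j.succ) →ₗ[ZMod p] ↥(W j.succ)) = 1} ∨
          ∃ B : LinearMap.BilinForm (ZMod p) ↥(W j.succ), B.IsAlt ∧ B.Nondegenerate ∧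
            (ρ.range : Set (↥(W j.succ) ≃ₗ[ZMod p] ↥(W j.succ))) = {f : ↥(W j.succ) ≃ₗ[ZMod p] ↥(W j.succ) | ∀ x y, B (f x) (f y) = B x y})) := by
  obtain ⟨W, hW⟩ : ∃ W : Fin (n + 1) → Submodule (ZMod p) V, W = Fin.cons (⨅ j, C j) U := ⟨_, rfl⟩
  have W0 : W 0 = ⨅ j, C j := by rw [hW]; rfl
  have Ws : ∀ j : Fin n, W j.succ = U j := fun j => by rw [hW]; exact Fin.cons_succ _ _ j
  have hWinv : ∀ i, Inv H (W i) := by
    refine Fin.cases ?_ ?_
    · intro h hh a ha
      rw [W0] at ha ⊢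
      rw [Submodule.mem_iInf] at ha ⊢
      exact fun j => hC j h hh a (ha j)
    · intro j; rw [Ws]; exact hU j
  have hWC : ∀ (j : Fin n) (i : Fin (n + 1)), i ≠ j.succ → W i ≤ C j := by
    intro j
    refine Fin.cases ?_ ?_
    · intro _; rw [W0]; exact iInf_le _ j
    · intro i hi; rw [Ws]; exact hUC i j (fun h => hi (by rw [h]))
  obtain ⟨π, hπ⟩ : ∃ π : Fin n → V →ₗ[ZMod p] V, π = fun j => (U j).subtype ∘ₗ (U j).projectionOnto (C j) (hc j) :=
    ⟨_, rfl⟩
  have πU : ∀ j, ∀ u ∈ U j, π j u = u := fun j u hu => by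
    rw [hπ]
    exact congrArg Subtype.val (Submodule.projectionOnto_apply_left (hc j) ⟨u, hu⟩)
  have πC : ∀ j, ∀ c ∈ C j, π j c = 0 := fun j c hc' => by
    rw [hπ]
    simp [(Submodule.projectionOnto_apply_eq_zero_iff (hc j)).2 hc']
  have πmem : ∀ j x, π j x ∈ U j := fun j x => by rw [hπ]; exact Subtype.mem _
  have hint : DirectSum.IsInternal W := by
    rw [DirectSum.isInternal_submodule_iff_iSupIndep_and_iSup_eq_top]
    constructor
    · intro i
      rw [disjoint_iff, Submodule.eq_bot_iff]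
      intro x hx
      revert hx
      refine Fin.cases ?_ ?_ i
      · intro hx
        have hle : (⨆ k, ⨆ (_ : k ≠ (0 : Fin (n + 1))), W k) ≤
            LinearMap.ker (LinearMap.id - ∑ j, π j) := by
          refine iSup₂_le fun k hk => ?_
          obtain ⟨j, rfl⟩ := Fin.exists_succ_eq.2 hk
          intro u hu
          rw [Ws] at hu
          rw [LinearMap.mem_ker, LinearMap.sub_apply, LinearMap.id_apply, LinearMap.sum_apply,
            Finset.sum_eq_single j (fun b _ hb => πC b u (hUC j b (Ne.symm hb) hu))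
              (fun h => absurd (Finset.mem_univ j) h), πU j u hu, sub_self]
        have h1 := hle hx.2
        rw [LinearMap.mem_ker, LinearMap.sub_apply, LinearMap.id_apply, LinearMap.sum_apply,
          Finset.sum_eq_zero (fun j _ => πC j x (hWC j 0 (Fin.succ_ne_zero j).symm hx.1)), sub_zero]
          at h1
        exact h1
      · intro j hx
        have hle : (⨆ k, ⨆ (_ : k ≠ j.succ), W k) ≤ C j := iSup₂_le fun k hk => hWC j k hk
        exact Submodule.disjoint_def.1 (hc j).disjoint x (Ws j ▸ hx.1) (hle hx.2)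
    · rw [Submodule.eq_top_iff']
      intro x
      have h0 : x - ∑ j, π j x ∈ W 0 := by
        rw [W0, Submodule.mem_iInf]
        intro k
        have h1 : π k (x - ∑ j, π j x) = 0 := by
          rw [map_sub, map_sum, Finset.sum_eq_single k
            (fun b _ hb => πC k _ (hUC b k hb (πmem b x))) (fun h => absurd (Finset.mem_univ k) h),
            πU k _ (πmem k x), sub_self]
        rw [hπ] at h1
        rw [hπ]
        simp only [LinearMap.comp_apply, Submodule.subtype_apply] at h1 ⊢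
        exact (Submodule.projectionOnto_apply_eq_zero_iff (hc k)).1 (Subtype.ext h1)
      have h2 : ∑ j, π j x ∈ ⨆ i, W i :=
        Submodule.sum_mem _ fun j _ => le_iSup W j.succ (by rw [Ws]; exact πmem j x)
      simpa using add_mem (le_iSup W 0 h0) h2
  have hfix : ∀ (j : Fin n), ∀ h ∈ part H (C j), ∀ i : Fin (n + 1), i ≠ j.succ → ∀ v ∈ W i, h v = v :=
    fun j h hh i hi v hv => hh.2 v (hWC j i hi hv)
  refine ⟨n, W, fun j => part H (C j), hn, hint, ?_, ?_, ?_, ?_, ?_, hfix, ?_⟩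
  · intro h hh i
    refine Submodule.eq_of_le_of_finrank_eq ?_ (LinearEquiv.finrank_map_eq h _)
    rintro _ ⟨a, ha, rfl⟩
    exact hWinv i h hh a ha
  · refine fun j => ⟨fun g hg => hg.1, ⟨fun x hx h => ?_⟩⟩
    refine Subgroup.mem_subgroupOf.2 ⟨(h * x * h⁻¹).2, fun c hc' => ?_⟩
    have hx' := (Subgroup.mem_subgroupOf.1 hx).2 _ ((hC j).symm_mem h.2 hc')
    show (h : V ≃ₗ[ZMod p] V) ((x : V ≃ₗ[ZMod p] V) ((h : V ≃ₗ[ZMod p] V).symm c)) = c
    rw [hx', LinearEquiv.apply_symm_apply]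
  · exact le_antisymm (iSup_le fun j g hg => hg.1) hgen
  · intro j
    rw [Subgroup.eq_bot_iff_forall]
    rintro g ⟨hg, hg'⟩
    have hle : (⨆ j' ∈ {j' : Fin n | j' ≠ j}, part H (C j')) ≤
        fixingSubgroup (V ≃ₗ[ZMod p] V) (U j : Set V) := by
      refine iSup₂_le fun k hk a ha => ?_
      rw [mem_fixingSubgroup_iff]
      exact fun u hu => ha.2 u (hUC j k (Ne.symm hk) hu)
    have h2 := (mem_fixingSubgroup_iff _).1 (hle hg')
    refine LinearEquiv.ext fun x => ?_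
    obtain ⟨u, hu, c, hc', rfl⟩ :=
      Submodule.mem_sup.1 (codisjoint_iff.1 (hc j).codisjoint ▸ Submodule.mem_top (x := x))
    rw [map_add, hg.2 c hc', show g u = u from h2 u hu]
    rfl
  · intro j j' hne a ha b hb
    refine LinearEquiv.ext fun x => ?_
    obtain ⟨u, hu, c, hc', rfl⟩ :=
      Submodule.mem_sup.1 (codisjoint_iff.1 (hc j).codisjoint ▸ Submodule.mem_top (x := x))
    rw [LinearEquiv.mul_apply, LinearEquiv.mul_apply]
    simp only [map_add]
    rw [hb.2 u (hUC j j' hne hu), hb.2 (a u) (hUC j j' hne (hU j a ha.1 u hu)), ha.2 c hc',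
      ha.2 (b c) (hC j b hb.1 c hc')]
  · intro j
    rw [Ws]
    exact hr j

/-- The decomposition theorem. -/
theorem Setup.decomposition (S : Setup H) :
    ∃ (n : ℕ) (W : Fin (n + 1) → Submodule (ZMod p) V) (K : Fin n → Subgroup (V ≃ₗ[ZMod p] V)),
      1 ≤ n ∧ DirectSum.IsInternal W ∧
      (∀ h ∈ H, ∀ i, (W i).map (h : V →ₗ[ZMod p] V) = W i) ∧
      (∀ j, K j ≤ H ∧ ((K j).subgroupOf H).Normal) ∧ ⨆ j, K j = H ∧
      (∀ j, K j ⊓ (⨆ j' ∈ {j' : Fin n | j' ≠ j}, K j') = ⊥) ∧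
      (∀ j j', j ≠ j' → ∀ a ∈ K j, ∀ b ∈ K j', a * b = b * a) ∧
      (∀ j, ∀ h ∈ K j, ∀ i : Fin (n + 1), i ≠ j.succ → ∀ v ∈ W i, h v = v) ∧
      (∀ j, ∃ ρ : ↥(K j) →* (↥(W j.succ) ≃ₗ[ZMod p] ↥(W j.succ)),
        (∀ (h : ↥(K j)) (v : ↥(W j.succ)), ((ρ h v : ↥(W j.succ)) : V) = (h : V ≃ₗ[ZMod p] V) (v : V)) ∧
        ((ρ.range : Set (↥(W j.succ) ≃ₗ[ZMod p] ↥(W j.succ))) =
            {f : ↥(W j.succ) ≃ₗ[ZMod p] ↥(W j.succ) | LinearMap.det (f : ↥(W j.succ) →ₗ[ZMod p] ↥(W j.succ)) = 1} ∨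
          ∃ B : LinearMap.BilinForm (ZMod p) ↥(W j.succ), B.IsAlt ∧ B.Nondegenerate ∧
            (ρ.range : Set (↥(W j.succ) ≃ₗ[ZMod p] ↥(W j.succ))) = {f : ↥(W j.succ) ≃ₗ[ZMod p] ↥(W j.succ) | ∀ x y, B (f x) (f y) = B x y})) := by
  by_cases hempty : ∀ U C, ¬ Comp H U C
  · have hH : H = ⊥ := by
      refine le_bot_iff.1 (S.gen.trans ((Subgroup.closure_le _).2 ?_))
      rintro t ⟨v, φ, hP, e⟩
      by_cases hv : v = 0
      · exact LinearEquiv.ext fun x => by simp [e, hv]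
      by_cases hφ : φ = 0
      · exact LinearEquiv.ext fun x => by simp [e, hφ]
      obtain ⟨U, C, K, -⟩ := S.exists_comp hP hv hφ
      exact absurd K (hempty U C)
    refine S.assemble le_rfl (fun _ => ⊥) (fun _ => ⊤) (fun _ => isCompl_bot_top)
      (fun i j hij => absurd (Subsingleton.elim i j) hij) (fun _ h _ a ha => ?_) (fun _ h _ a _ => trivial)
      (by rw [hH]; exact bot_le) (fun j => ⟨1, fun g v => ?_, Or.inl ?_⟩)
    · rw [Submodule.mem_bot] at ha; rw [ha, map_zero]; exact zero_mem _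
    · have hv : (v : V) = 0 := (Submodule.mem_bot _).1 v.2
      simp [hv]
    · refine Set.eq_of_subset_of_subset ?_ fun f _ => ⟨1, ?_⟩
      · rintro _ ⟨g, rfl⟩
        show LinearMap.det (LinearMap.id : (⊥ : Submodule (ZMod p) V) →ₗ[ZMod p] _) = 1
        exact LinearMap.det_id
      · exact Subsingleton.elim _ _
  push Not at hempty
  obtain ⟨U₁, C₁, K₁⟩ := hempty
  obtain ⟨n, ⟨e⟩⟩ := Finite.exists_equiv_fin {U : Submodule (ZMod p) V // ∃ C, Comp H U C}
  have hK := fun j => (e.symm j).2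
  choose C hK using hK
  have hne : ∀ i j, i ≠ j → (e.symm i).1 ≠ (e.symm j).1 := fun i j h h' =>
    h (e.symm.injective (Subtype.ext h'))
  refine S.assemble (Fin.pos (e ⟨U₁, C₁, K₁⟩)) (fun j => (e.symm j).1) C (fun j => (hK j).compl)
    (fun i j h => (hK i).orth (hK j) (hne i j h)) (fun j => ((hK j).inv S).1)
    (fun j => ((hK j).inv S).2) ?_ (fun j => (hK j).range S)
  refine S.gen.trans ((Subgroup.closure_le _).2 ?_)
  rintro t ⟨v, φ, hP, hte⟩
  by_cases hv : v = 0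
  · rw [show t = 1 from LinearEquiv.ext fun x => by simp [hte, hv]]; exact one_mem _
  by_cases hφ : φ = 0
  · rw [show t = 1 from LinearEquiv.ext fun x => by simp [hte, hφ]]; exact one_mem _
  obtain ⟨U, C', K, hin⟩ := S.exists_comp hP hv hφ
  obtain ⟨j, hj⟩ : ∃ j, (e.symm j).1 = U := ⟨e ⟨U, C', K⟩, by rw [Equiv.symm_apply_apply]⟩
  obtain ⟨d, t', ht', e'⟩ := hP
  obtain rfl : t = t' := LinearEquiv.ext fun x => by rw [hte, e']
  refine le_iSup (fun j => part H (C j)) j ⟨ht', fun c hc => ?_⟩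
  have hKj := hK j
  rw [hj] at hKj
  rw [hte, hin.2 c (hKj.le_C K hc), zero_smul, add_zero]

end Cfsg.Agent.OddTrans
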