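import Mathlib
import Cfsg.Prelude.Def_Solvable
import Cfsg.Agent.Lib.Basics.Cores
import Cfsg.Agent.Lib.Invol.BaerSuzuki

/-!
Groups generated by transvections over the field with `p` elements, `p` odd, without normal
`p`-subgroups: the relation "the transvection of `(v, φ)` lies in `H`", and the flag criterion.
-/

set_option autoImplicit false

namespace Cfsg.Agent.OddTrans

open Cfsg

variable {p : ℕ} [Fact p.Prime] {V : Type*} [AddCommGroup V] [Module (ZMod p) V]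

/-- The transvection of `(v, φ)` lies in `H`. -/
def Tin (H : Subgroup (V ≃ₗ[ZMod p] V)) (v : V) (φ : Module.Dual (ZMod p) V) : Prop :=
  φ v = 0 ∧ ∃ g ∈ H, ∀ x, g x = x + φ x • v

variable {H : Subgroup (V ≃ₗ[ZMod p] V)} {v w : V} {φ ψ : Module.Dual (ZMod p) V}

theorem Tin.dot (h : Tin H v φ) : φ v = 0 := h.1

theorem tin_zero_left : Tin H 0 φ :=
  ⟨map_zero φ, 1, H.one_mem, fun x => by simp⟩

theorem tin_zero_right : Tin H v 0 :=
  ⟨rfl, 1, H.one_mem, fun x => by simp⟩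

theorem Tin.addR (h : Tin H v φ) (h' : Tin H v ψ) : Tin H v (φ + ψ) := by
  obtain ⟨d, g, hg, e⟩ := h
  obtain ⟨d', g', hg', e'⟩ := h'
  refine ⟨by simp [d, d'], g * g', H.mul_mem hg hg', fun x => ?_⟩
  show g (g' x) = _
  rw [e', e, map_add, map_smul, d, LinearMap.add_apply, smul_zero, add_zero]
  module

theorem Tin.addL (h : Tin H v φ) (h' : Tin H w φ) : Tin H (v + w) φ := by
  obtain ⟨d, g, hg, e⟩ := h
  obtain ⟨d', g', hg', e'⟩ := h'
  refine ⟨by simp [d, d'], g * g', H.mul_mem hg hg', fun x => ?_⟩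
  show g (g' x) = _
  rw [e', e, map_add, map_smul, d', smul_zero, add_zero]
  module

theorem Tin.smulL (c : ZMod p) (h : Tin H v φ) : Tin H (c • v) φ := by
  have key : ∀ n : ℕ, Tin H ((n : ZMod p) • v) φ := by
    intro n
    induction n with
    | zero => simpa using tin_zero_left
    | succ n ih => rw [Nat.cast_succ, add_smul, one_smul]; exact ih.addL h
  have := key c.val
  rwa [ZMod.natCast_zmod_val] at this

theorem Tin.smulR (c : ZMod p) (h : Tin H v φ) : Tin H v (c • φ) := by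
  obtain ⟨d, g, hg, e⟩ := h.smulL c
  exact ⟨by simp [h.dot], g, hg, fun x => by rw [e, LinearMap.smul_apply, smul_eq_mul, mul_smul,
    smul_comm]⟩

theorem Tin.conj (h : Tin H v φ) {g : V ≃ₗ[ZMod p] V} (hg : g ∈ H) :
    Tin H (g v) (φ ∘ₗ (g.symm : V →ₗ[ZMod p] V)) := by
  obtain ⟨d, t, ht, e⟩ := h
  refine ⟨by simp [d], g * t * g⁻¹, H.mul_mem (H.mul_mem hg ht) (H.inv_mem hg), fun x => ?_⟩
  show g (t (g.symm x)) = _
  rw [e, map_add, map_smul, LinearEquiv.apply_symm_apply]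
  rfl

/-- The commutator rule. -/
theorem Tin.comm (h : Tin H v φ) (h' : Tin H w ψ) (hv : ψ v = 0) (hw : φ w ≠ 0) : Tin H v ψ := by
  obtain ⟨d, g, hg, e⟩ := h'
  have h1 := h.conj hg
  have hgv : g v = v := by rw [e, hv, zero_smul, add_zero]
  have hs : φ ∘ₗ (g.symm : V →ₗ[ZMod p] V) = φ - φ w • ψ := by
    refine LinearMap.ext fun x => ?_
    have hsx : g.symm x = x - ψ x • w := by
      rw [LinearEquiv.symm_apply_eq, map_sub, map_smul, e, e w, d]
      module
    simp [hsx, mul_comm]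
  rw [hgv, hs] at h1
  have h2 : Tin H v (φ w • ψ) := by
    have := h.addR (h1.smulR (-1))
    convert this using 1
    module
  simpa [smul_smul, hw] using h2.smulR (φ w)⁻¹

/-- Invariance under `H`. -/
def Inv (H : Subgroup (V ≃ₗ[ZMod p] V)) (A : Submodule (ZMod p) V) : Prop :=
  ∀ h ∈ H, ∀ a ∈ A, h a ∈ A

/-- The standing hypotheses. -/
structure Setup (H : Subgroup (V ≃ₗ[ZMod p] V)) : Prop where
  odd : Odd p
  gen : H ≤ Subgroup.closure {g | ∃ v φ, Tin H v φ ∧ ∀ x, g x = x + φ x • v}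
  core : Cfsg.pCore p ↥H = ⊥

section Flag

variable (A B : Submodule (ZMod p) V) (hAB : A ≤ B)

/-- Automorphisms centralising the flag `0 ≤ A ≤ B ≤ V`. -/
def flagGroup : Subgroup (V ≃ₗ[ZMod p] V) where
  carrier := {g | (∀ a ∈ A, g a = a) ∧ (∀ b ∈ B, g b - b ∈ A) ∧ ∀ x, g x - x ∈ B}
  one_mem' := ⟨fun a _ => rfl, fun b _ => by simp, fun x => by simp⟩
  mul_mem' := by
    rintro g h ⟨g1, g2, g3⟩ ⟨h1, h2, h3⟩
    refine ⟨fun a ha => by show g (h a) = a; rw [h1 a ha, g1 a ha], fun b hb => ?_, fun x => ?_⟩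
    · have : g (h b) - b = g (h b - b) + (g b - b) := by rw [map_sub]; abel
      show g (h b) - b ∈ A
      rw [this, g1 _ (h2 b hb)]
      exact A.add_mem (h2 b hb) (g2 b hb)
    · have : g (h x) - x = (g (h x - x) - (h x - x)) + (h x - x) + (g x - x) := by
        rw [map_sub]; abel
      show g (h x) - x ∈ B
      rw [this]
      exact B.add_mem (B.add_mem (g3 _) (h3 x)) (g3 x)
  inv_mem' := by
    rintro g ⟨g1, g2, g3⟩
    refine ⟨fun a ha => ?_, fun b hb => ?_, fun x => ?_⟩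
    · show g.symm a = a
      rw [LinearEquiv.symm_apply_eq, g1 a ha]
    · obtain ⟨y, rfl⟩ : ∃ y, g y = b := ⟨g.symm b, g.apply_symm_apply b⟩
      show g.symm (g y) - g y ∈ A
      rw [LinearEquiv.symm_apply_apply]
      have hy : y ∈ B := by simpa using B.sub_mem hb (g3 y)
      simpa using A.neg_mem (g2 y hy)
    · obtain ⟨y, rfl⟩ : ∃ y, g y = x := ⟨g.symm x, g.apply_symm_apply x⟩
      show g.symm (g y) - g y ∈ B
      rw [LinearEquiv.symm_apply_apply]
      simpa using B.neg_mem (g3 y)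

theorem mem_flagGroup {g : V ≃ₗ[ZMod p] V} :
    g ∈ flagGroup A B ↔
      (∀ a ∈ A, g a = a) ∧ (∀ b ∈ B, g b - b ∈ A) ∧ ∀ x, g x - x ∈ B := Iff.rfl

theorem flagGroup_isPGroup (hp : Odd p) : IsPGroup p (flagGroup A B) := by
  intro ⟨g, g1, g2, g3⟩
  refine ⟨1, Subtype.ext (LinearEquiv.ext fun x => ?_)⟩
  obtain ⟨d, hd⟩ : ∃ d, d = g x - x := ⟨_, rfl⟩
  obtain ⟨a, ha⟩ : ∃ a, a = g d - d := ⟨_, rfl⟩
  have hga : g a = a := g1 a (ha ▸ g2 d (hd ▸ g3 x))
  have key : ∀ n : ℕ, (g ^ n) x = x + (n : ZMod p) • d + (n.choose 2 : ZMod p) • a := by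
    intro n
    induction n with
    | zero => simp
    | succ n ih =>
      rw [pow_succ', LinearEquiv.mul_apply, ih, map_add, map_add, map_smul, map_smul, hga,
        show g x = x + d by rw [hd]; abel, show g d = d + a by rw [ha]; abel]
      rw [Nat.choose_succ_succ', Nat.choose_one_right, Nat.cast_add, Nat.cast_succ]
      module
  have h2 : ((p.choose 2 : ℕ) : ZMod p) = 0 := by
    rw [ZMod.natCast_eq_zero_iff]
    refine (Fact.out : p.Prime).dvd_choose_self two_ne_zero ?_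
    have := (Fact.out : p.Prime).two_le
    obtain ⟨k, hk⟩ := hp
    omega
  rw [pow_one]
  show (g ^ p) x = x
  rw [key, h2, ZMod.natCast_self]
  simp

end Flag

theorem Inv.symm_mem {A : Submodule (ZMod p) V} (hA : Inv H A) {h : V ≃ₗ[ZMod p] V} (hh : h ∈ H)
    {a : V} (ha : a ∈ A) : h.symm a ∈ A :=
  hA h⁻¹ (H.inv_mem hh) a ha

/-- A transvection group without normal `p`-subgroup centralises no invariant flag. -/
theorem Setup.eq_one_of_flag (S : Setup H) {A B : Submodule (ZMod p) V} (hA : Inv H A) (hB : Inv H B)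
    {g : V ≃ₗ[ZMod p] V} (hg : g ∈ H) (g1 : ∀ a ∈ A, g a = a) (g2 : ∀ b ∈ B, g b - b ∈ A)
    (g3 : ∀ x, g x - x ∈ B) : g = 1 := by
  obtain ⟨N, hN⟩ : ∃ N, N = (flagGroup A B).subgroupOf H := ⟨_, rfl⟩
  have hn : N.Normal := by
    subst hN
    refine ⟨fun x hx h => ?_⟩
    obtain ⟨x1, x2, x3⟩ := Subgroup.mem_subgroupOf.1 hx
    refine Subgroup.mem_subgroupOf.2 ⟨fun a ha => ?_, fun b hb => ?_, fun y => ?_⟩
    · show (h : V ≃ₗ[ZMod p] V) ((x : V ≃ₗ[ZMod p] V) ((h : V ≃ₗ[ZMod p] V).symm a)) = a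
      rw [x1 _ (hA.symm_mem h.2 ha), LinearEquiv.apply_symm_apply]
    · show (h : V ≃ₗ[ZMod p] V) ((x : V ≃ₗ[ZMod p] V) ((h : V ≃ₗ[ZMod p] V).symm b)) - b ∈ A
      have := hA _ h.2 _ (x2 _ (hB.symm_mem h.2 hb))
      rwa [map_sub, LinearEquiv.apply_symm_apply] at this
    · show (h : V ≃ₗ[ZMod p] V) ((x : V ≃ₗ[ZMod p] V) ((h : V ≃ₗ[ZMod p] V).symm y)) - y ∈ B
      have := hB _ h.2 _ (x3 ((h : V ≃ₗ[ZMod p] V).symm y))
      rwa [map_sub, LinearEquiv.apply_symm_apply] at this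
  have hP : IsPGroup p N := by
    subst hN
    exact ((flagGroup_isPGroup A B S.odd).comap_of_injective H.subtype H.subtype_injective)
  have hb : (⟨g, hg⟩ : H) ∈ N := by subst hN; exact Subgroup.mem_subgroupOf.2 ⟨g1, g2, g3⟩
  have hle : N ≤ Cfsg.pCore p ↥H := le_sSup ⟨hn, hP⟩
  rw [S.core] at hle
  exact congrArg Subtype.val (Subgroup.mem_bot.1 (hle hb))

theorem Tin.eq_zero_of_inv (h : Tin H v φ) (S : Setup H) {W : Submodule (ZMod p) V} (hW : Inv H W)
    (hv : v ∈ W) (hφ : ∀ x ∈ W, φ x = 0) : φ = 0 ∨ v = 0 := by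
  obtain ⟨d, g, hg, e⟩ := h
  have hg1 : ∀ a ∈ W, g a = a := fun a ha => by rw [e, hφ a ha, zero_smul, add_zero]
  have h1 : g = 1 := S.eq_one_of_flag hW hW hg hg1
    (fun b hb => by rw [hg1 b hb, sub_self]; exact W.zero_mem)
    (fun x => by rw [e, add_sub_cancel_left]; exact W.smul_mem _ hv)
  by_cases hv0 : v = 0
  · exact Or.inr hv0
  refine Or.inl (LinearMap.ext fun x => ?_)
  have := e x
  rw [h1, LinearEquiv.coe_one, id] at this
  simpa [hv0] using this

variable [Finite V]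

theorem Setup.inv_of_tin (S : Setup H) {A : Submodule (ZMod p) V}
    (h : ∀ v φ, Tin H v φ → ∀ a ∈ A, φ a • v ∈ A) : Inv H A := by
  intro g hg
  have hcl := S.gen hg
  clear hg
  have key : A.map (g : V →ₗ[ZMod p] V) = A := by
    induction hcl using Subgroup.closure_induction with
    | mem t ht =>
      obtain ⟨v, φ, hvφ, e⟩ := ht
      refine Submodule.eq_of_le_of_finrank_eq ?_ (LinearEquiv.finrank_map_eq t A)
      rintro _ ⟨a, ha, rfl⟩
      rw [LinearEquiv.coe_coe, e]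
      exact A.add_mem ha (h v φ hvφ a ha)
    | one => exact Submodule.map_id A
    | mul x y _ _ hx hy =>
      show A.map ((x : V →ₗ[ZMod p] V) ∘ₗ (y : V →ₗ[ZMod p] V)) = A
      rw [Submodule.map_comp, hy, hx]
    | inv x _ hx =>
      show A.map ((x.symm : V ≃ₗ[ZMod p] V) : V →ₗ[ZMod p] V) = A
      conv_lhs => rw [← hx]
      rw [← Submodule.map_comp, LinearEquiv.symm_comp, Submodule.map_id]
  intro a ha
  rw [← key]
  exact ⟨a, ha, rfl⟩

/-- Every transvection of `H` has an interacting partner. -/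
theorem Setup.exists_mutual (S : Setup H) (h : Tin H v φ) (hv : v ≠ 0) (hφ : φ ≠ 0) :
    ∃ w ψ, Tin H w ψ ∧ φ w ≠ 0 ∧ ψ v ≠ 0 := by
  by_contra hno
  push Not at hno
  obtain ⟨d, g, hg, e⟩ := h
  have : Finite (V ≃ₗ[ZMod p] V) := DFunLike.finite _
  obtain ⟨N, hN, hP, hxN⟩ := Invol.baerSuzuki_element (p := p) (x := (⟨g, hg⟩ : H)) (fun k => by
    obtain ⟨w, hwdef⟩ : ∃ w, w = (k : V ≃ₗ[ZMod p] V) v := ⟨_, rfl⟩
    obtain ⟨ψ, hψdef⟩ : ∃ ψ, ψ = φ ∘ₗ ((k : V ≃ₗ[ZMod p] V).symm : V →ₗ[ZMod p] V) := ⟨_, rfl⟩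
    have hk : Tin H w ψ := by subst hwdef hψdef; exact Tin.conj ⟨d, g, hg, e⟩ k.2
    have ek : ∀ x, ((k * ⟨g, hg⟩ * k⁻¹ : H) : V ≃ₗ[ZMod p] V) x = x + ψ x • w := by
      intro x
      show (k : V ≃ₗ[ZMod p] V) (g ((k : V ≃ₗ[ZMod p] V).symm x)) = _
      rw [e, map_add, map_smul, LinearEquiv.apply_symm_apply, hwdef, hψdef]
      rfl
    have gen : ∀ (v w : V) (φ ψ : Module.Dual (ZMod p) V), φ v = 0 → ψ w = 0 → ψ v = 0 →
        ∀ t : V ≃ₗ[ZMod p] V, ((∀ x, t x = x + φ x • v) ∨ ∀ x, t x = x + ψ x • w) →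
        t ∈ flagGroup (Submodule.span (ZMod p) {v}) (Submodule.span (ZMod p) {v, w}) := by
      intro v w φ ψ h1 h2 h3 t ht
      rw [mem_flagGroup]
      rcases ht with ht | ht
      · refine ⟨fun a ha => ?_, fun b _ => ?_, fun x => ?_⟩
        · obtain ⟨c, rfl⟩ := Submodule.mem_span_singleton.1 ha
          simp [ht, h1]
        · rw [ht, add_sub_cancel_left]
          exact Submodule.smul_mem _ _ (Submodule.mem_span_singleton_self v)
        · rw [ht, add_sub_cancel_left]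
          exact Submodule.smul_mem _ _ (Submodule.subset_span (by simp))
      · refine ⟨fun a ha => ?_, fun b hb => ?_, fun x => ?_⟩
        · obtain ⟨c, rfl⟩ := Submodule.mem_span_singleton.1 ha
          simp [ht, h3]
        · obtain ⟨c, c', rfl⟩ := Submodule.mem_span_pair.1 hb
          simp [ht, h2, h3]
        · rw [ht, add_sub_cancel_left]
          exact Submodule.smul_mem _ _ (Submodule.subset_span (by simp))
    have mk : ∀ A B : Submodule (ZMod p) V, g ∈ flagGroup A B →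
        ((k * ⟨g, hg⟩ * k⁻¹ : H) : V ≃ₗ[ZMod p] V) ∈ flagGroup A B →
        IsPGroup p ↥(Subgroup.closure ({⟨g, hg⟩, k * ⟨g, hg⟩ * k⁻¹} : Set H)) := by
      intro A B h1 h2
      refine ((flagGroup_isPGroup A B S.odd).comap_of_injective H.subtype H.subtype_injective).to_le ?_
      rw [Subgroup.closure_le]
      rintro _ (rfl | rfl)
      exacts [h1, h2]
    by_cases h3 : ψ v = 0
    · exact mk _ _ (gen v w φ ψ d hk.dot h3 g (Or.inl e)) (gen v w φ ψ d hk.dot h3 _ (Or.inr ek))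
    · have h4 : φ w = 0 := by
        by_contra h5
        exact h3 (hno w ψ hk h5)
      exact mk _ _ (gen w v ψ φ hk.dot d h4 g (Or.inr e)) (gen w v ψ φ hk.dot d h4 _ (Or.inl ek)))
  have hle : N ≤ Cfsg.pCore p ↥H := le_sSup ⟨hN, hP⟩
  rw [S.core] at hle
  have h1 : g = 1 := congrArg Subtype.val (Subgroup.mem_bot.1 (hle hxN))
  refine hφ (LinearMap.ext fun x => ?_)
  have := e x
  rw [h1, LinearEquiv.coe_one, id] at this
  simpa [hv] using this

/-- An element of order `p` fixing a hyperplane is a transvection. -/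
theorem exists_form {t : V ≃ₗ[ZMod p] V} (ho : orderOf t = p)
    (hk : Module.finrank (ZMod p) ↥(LinearMap.ker ((t : V →ₗ[ZMod p] V) - LinearMap.id)) + 1 =
        Module.finrank (ZMod p) V) :
    ∃ v φ, v ≠ (0 : V) ∧ φ ≠ (0 : Module.Dual (ZMod p) V) ∧ φ v = 0 ∧
      ∀ x, t x = x + φ x • v := by
  obtain ⟨N, hN⟩ : ∃ N : V →ₗ[ZMod p] V, N = (t : V →ₗ[ZMod p] V) - LinearMap.id := ⟨_, rfl⟩
  rw [← hN] at hk
  have hr : Module.finrank (ZMod p) ↥(LinearMap.range N) = 1 := by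
    have := N.finrank_range_add_finrank_ker; omega
  obtain ⟨v, hv0, hspan⟩ := finrank_eq_one_iff'.1 hr
  have hv : (v : V) ≠ 0 := fun h => hv0 (Subtype.ext h)
  obtain ⟨f, hf⟩ : ∃ f : Module.Dual (ZMod p) V, f (v : V) = 1 := by
    have : ¬ ∀ f : Module.Dual (ZMod p) V, f (v : V) = 0 := fun h =>
      hv ((Module.forall_dual_apply_eq_zero_iff (ZMod p) _).1 h)
    push Not at this
    obtain ⟨f, hf⟩ := this
    exact ⟨(f (v : V))⁻¹ • f, by simp [hf]⟩
  have e : ∀ x, N x = (f ∘ₗ N) x • (v : V) := fun x => by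
    obtain ⟨c, hc⟩ := hspan ⟨N x, LinearMap.mem_range_self N x⟩
    have hc' : c • (v : V) = N x := congrArg Subtype.val hc
    rw [LinearMap.comp_apply, ← hc', map_smul, hf, smul_eq_mul, mul_one]
  have et : ∀ x, t x = x + (f ∘ₗ N) x • (v : V) := fun x => by
    rw [← e, hN, LinearMap.sub_apply, LinearMap.id_apply, LinearEquiv.coe_coe]; abel
  refine ⟨v, f ∘ₗ N, hv, fun h0 => ?_, ?_, et⟩
  · obtain ⟨y, hy⟩ := v.2
    exact hv (by rw [← hy, e, h0]; simp)
  · by_contra ha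
    obtain ⟨a, hadef⟩ : ∃ a, a = (f ∘ₗ N) (v : V) := ⟨_, rfl⟩
    have key : ∀ n : ℕ, (t ^ n) (v : V) = (1 + a) ^ n • (v : V) := by
      intro n
      induction n with
      | zero => simp
      | succ n ih =>
        rw [pow_succ', LinearEquiv.mul_apply, ih, map_smul, et, ← hadef, pow_succ]
        module
    have := key p
    rw [orderOf_dvd_iff_pow_eq_one.1 (dvd_of_eq ho), ZMod.pow_card, LinearEquiv.coe_one, id, add_smul, one_smul,
      left_eq_add] at this
    simp [hv] at this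
    exact ha (hadef ▸ this)

end Cfsg.Agent.OddTrans
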