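import Cfsg.Agent.Lib.OddTrans.SpComp

/-!
Every transvection of a transvection group without normal `p`-subgroup lies in a component.
-/

set_option autoImplicit false

namespace Cfsg.Agent.OddTrans

variable {p : ℕ} [Fact p.Prime] {V : Type*} [AddCommGroup V] [Module (ZMod p) V]
variable {H : Subgroup (V ≃ₗ[ZMod p] V)} {U : Submodule (ZMod p) V}
  {β : V →ₗ[ZMod p] Module.Dual (ZMod p) V}

/-- A closed pair of rank three through the state. -/
def Seed (H : Subgroup (V ≃ₗ[ZMod p] V)) (U : Submodule (ZMod p) V)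
    (β : V →ₗ[ZMod p] Module.Dual (ZMod p) V) : Prop :=
  ∃ (U₀ : Submodule (ZMod p) V) (E₀ : Submodule (ZMod p) (Module.Dual (ZMod p) V)) (x : V),
    Cl (ev p V) (Tin H) U₀ E₀ ∧ DualSys (ev p V) U₀ E₀ 3 ∧ x ∈ U ∧ NR U β x ∧ x ∈ U₀ ∧ β x ∈ E₀

theorem St.seed (T : St H U β) {x y w : V} {ψ e₀ : Module.Dual (ZMod p) V} (hx : x ∈ U) (hy : y ∈ U)
    (h : β x y ≠ 0) (hPx : Tin H x ψ) (hP : Tin H w e₀)
    (he₀ : e₀ ∈ Submodule.span (ZMod p) {β x, β y} ⊔ Submodule.span (ZMod p) {ψ}) (h₀ : e₀ x ≠ 0 ∨ e₀ y ≠ 0)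
    (hg : ∃ g ∈ Submodule.span (ZMod p) {β x, β y} ⊔ Submodule.span (ZMod p) {ψ}, g x = 0 ∧ g y = 0 ∧ g w ≠ 0) :
    Seed H U β := by
  obtain ⟨g, hgE, gx, gy, gw⟩ := hg
  have hpl := T.plane hx hy h
  have hrk := T.plane_rank hx hy h
  have hxs : x ∈ Submodule.span (ZMod p) ({x, y} : Set V) := Submodule.subset_span (by simp)
  have hys : y ∈ Submodule.span (ZMod p) ({x, y} : Set V) := Submodule.subset_span (by simp)
  have hby : β y x ≠ 0 := by rw [T.skew hx hy]; simpa
  have h2 := tin_sys.grow hpl (hrk.two le_rfl) hxs hPx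
    ⟨β y, Submodule.subset_span (by simp), hby⟩
  have hrk2 := hrk.mono (le_refl _) (le_sup_left (b := Submodule.span (ZMod p) {ψ}))
  have h3 := tin_sys.growL h2 (fun f => hrk2.flip.two le_rfl f) he₀ hP
    (h₀.elim (fun h => ⟨x, hxs, h⟩) (fun h => ⟨y, hys, h⟩))
  exact ⟨_, _, x, h3, T.rank_three hx hy h
    ⟨Submodule.mem_sup_left hxs, Submodule.mem_sup_left hys,
      Submodule.mem_sup_right (Submodule.mem_span_singleton_self w)⟩
    ⟨Submodule.mem_sup_left (Submodule.subset_span (by simp)),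
      Submodule.mem_sup_left (Submodule.subset_span (by simp)), hgE⟩ gx gy gw,
    hx, ⟨y, hy, h⟩, Submodule.mem_sup_left hxs,
    Submodule.mem_sup_left (Submodule.subset_span (by simp))⟩

/-- The functionals killing `U` whose transvections at every centre of the state lie in `H`. -/
def A0 (H : Subgroup (V ≃ₗ[ZMod p] V)) (U : Submodule (ZMod p) V)
    (β : V →ₗ[ZMod p] Module.Dual (ZMod p) V) : Submodule (ZMod p) (Module.Dual (ZMod p) V) where
  carrier := {η | (∀ u ∈ U, η u = 0) ∧ ∀ x ∈ U, NR U β x → Tin H x η}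
  zero_mem' := ⟨fun u _ => rfl, fun x _ _ => tin_zero_right⟩
  add_mem' := fun ha hb => ⟨fun u hu => by simp [ha.1 u hu, hb.1 u hu],
    fun x hx hn => (ha.2 x hx hn).addR (hb.2 x hx hn)⟩
  smul_mem' := fun c a ha => ⟨fun u hu => by simp [ha.1 u hu],
    fun x hx hn => (ha.2 x hx hn).smulR c⟩

/-- The vectors killed by the state's functionals which are centres for all of them. -/
def C0 (H : Subgroup (V ≃ₗ[ZMod p] V)) (U : Submodule (ZMod p) V)
    (β : V →ₗ[ZMod p] Module.Dual (ZMod p) V) : Submodule (ZMod p) V where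
  carrier := {z | (∀ u ∈ U, β u z = 0) ∧ ∀ x ∈ U, NR U β x → Tin H z (β x)}
  zero_mem' := ⟨fun u _ => map_zero _, fun x _ _ => tin_zero_left⟩
  add_mem' := fun ha hb => ⟨fun u hu => by simp [ha.1 u hu, hb.1 u hu],
    fun x hx hn => (ha.2 x hx hn).addL (hb.2 x hx hn)⟩
  smul_mem' := fun c a ha => ⟨fun u hu => by simp [ha.1 u hu],
    fun x hx hn => (ha.2 x hx hn).smulL c⟩

theorem St.connect (T : St H U β) {x z : V} (hx : x ∈ U) (hz : z ∈ U) (hn : NR U β x)
    (hn' : NR U β z) :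
    ∃ y ∈ U, β x y ≠ 0 ∧ β y z ≠ 0 := by
  obtain ⟨y, hy, h1, h2⟩ := exists_two hn hn'
  exact ⟨y, hy, h1, by rw [T.skew hz hy]; simpa⟩

theorem St.mem_A0 (T : St H U β) {η : Module.Dual (ZMod p) V} {x : V} (hη : ∀ u ∈ U, η u = 0)
    (hx : x ∈ U) (hn : NR U β x) (hP : Tin H x η) : η ∈ A0 H U β := by
  refine ⟨hη, fun z hz hn' => ?_⟩
  have step : ∀ {a b : V}, a ∈ U → b ∈ U → β a b ≠ 0 → Tin H a η → Tin H b η := by
    intro a b ha hb h hPa
    have h' : β b a ≠ 0 := by rw [T.skew ha hb]; simpa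
    have h2 := tin_sys.grow (T.plane ha hb h) ((T.plane_rank ha hb h).two le_rfl)
      (Submodule.subset_span (by simp)) hPa ⟨β b, Submodule.subset_span (by simp), h'⟩
    exact h2 b (Submodule.subset_span (by simp)) η
      (Submodule.mem_sup_right (Submodule.mem_span_singleton_self η)) (hη b hb)
  obtain ⟨y, hy, h1, h2⟩ := T.connect hx hz hn hn'
  exact step hy hz h2 (step hx hy h1 hP)

theorem St.mem_C0 (T : St H U β) {w x : V} (hw : ∀ u ∈ U, β u w = 0)
    (hx : x ∈ U) (hn : NR U β x) (hP : Tin H w (β x)) : w ∈ C0 H U β := by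
  refine ⟨hw, fun z hz hn' => ?_⟩
  have step : ∀ {a b : V}, a ∈ U → b ∈ U → β a b ≠ 0 → Tin H w (β a) → Tin H w (β b) := by
    intro a b ha hb h hPa
    have h2 := tin_sys.growL (T.plane ha hb h)
      (fun f => (T.plane_rank ha hb h).flip.two le_rfl f) (Submodule.subset_span (by simp)) hPa
      ⟨b, Submodule.subset_span (by simp), h⟩
    exact h2 w (Submodule.mem_sup_right (Submodule.mem_span_singleton_self w)) (β b)
      (Submodule.subset_span (by simp)) (hw b hb)
  obtain ⟨y, hy, h1, h2⟩ := T.connect hx hz hn hn'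
  exact step hy hz h2 (step hx hy h1 hP)

/-- The symplectic component from a maximal state without seed. -/
theorem St.exists_comp_sp [Finite V] (T : St H U β) (S : Setup H) (hne : ∃ x ∈ U, NR U β x)
    (hns : ¬ Seed H U β)
    (hmax : ∀ U' β', St H U' β' → U ≤ U' → (∀ x ∈ U, β' x = β x) → U' ≤ U) :
    ∃ C, Comp H U C ∧ ∀ x ∈ U, ∀ c ∈ C, β x c = 0 := by
  obtain ⟨x₀, hx₀, hn₀⟩ := hne
  obtain ⟨y₀, hy₀, hxy₀⟩ := hn₀
  have hn₀ : NR U β x₀ := ⟨y₀, hy₀, hxy₀⟩
  -- classification of the transvections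
  have hcase : ∀ w ψ, Tin H w ψ →
      (w ∈ U ∧ NR U β w ∧ ∃ k : ZMod p, ψ - k • β w ∈ A0 H U β) ∨ w ∈ C0 H U β ∨ ψ ∈ A0 H U β ∨
        ((∀ x ∈ U, β x w = 0) ∧ ∀ x ∈ U, ψ x = 0) := by
    intro w ψ hP
    by_cases hψ : ∃ x ∈ U, ψ x ≠ 0
    · by_cases hl : ∃ x ∈ U, β x w ≠ 0
      · have hprop : ∀ x ∈ U, ψ x = 0 → β x w = 0 := by
          intro x hx hψx
          by_contra hlx
          have key : ∀ {a}, a ∈ U → NR U β a → ψ a = 0 → β a w ≠ 0 → False := by
            intro a ha hna hψa hla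
            have hPa : Tin H a ψ := (T.tin a ha hna).comm hP hψa hla
            obtain ⟨y, hy, h1, h2⟩ := exists_two (f := β a) hna hψ
            refine hns (T.seed ha hy h1 hPa hP (Submodule.mem_sup_right
              (Submodule.mem_span_singleton_self ψ)) (Or.inr h2)
              ⟨ψ - (ψ y / β a y) • β a, sub_mem (Submodule.mem_sup_right
                (Submodule.mem_span_singleton_self ψ)) (Submodule.smul_mem _ _
                (Submodule.mem_sup_left (Submodule.subset_span (by simp)))), ?_, ?_, ?_⟩)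
            · simp [hψa, T.alt a ha]
            · simp [h1]
            · simp [hP.dot, h1, h2, hla]
          by_cases hnx : NR U β x
          · exact key hx hnx hψx hlx
          obtain ⟨b, hb, hnb, hψb⟩ : ∃ b ∈ U, NR U β b ∧ ψ b = 0 := by
            by_cases h : ψ x₀ = 0
            · exact ⟨x₀, hx₀, hn₀, h⟩
            · refine ⟨y₀ - (ψ y₀ / ψ x₀) • x₀, U.sub_mem hy₀ (U.smul_mem _ hx₀),
                T.nr_right hx₀ (U.sub_mem hy₀ (U.smul_mem _ hx₀)) ?_, by simp [h]⟩
              simpa [T.alt x₀ hx₀] using hxy₀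
          obtain ⟨z, hz, hbz⟩ := hnb
          obtain ⟨t, ht, h'⟩ := exists_scalar S.odd (β x w) (β b w) (Or.inl hlx)
          refine key (U.sub_mem hx (U.smul_mem t hb)) ⟨z, hz, ?_⟩ (by simp [hψx, hψb])
            (by simpa using h')
          have hxz : β x z = 0 := by
            by_contra hc
            exact hnx ⟨z, hz, hc⟩
          simp [hxz, ht, hbz]
        obtain ⟨u, hu, hψu⟩ := hψ
        have hr : ∀ x ∈ U, β x w = (β u w / ψ u) * ψ x := by
          intro x hx
          have := hprop (x - (ψ x / ψ u) • u) (U.sub_mem hx (U.smul_mem _ hu)) (by simp [hψu])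
          simp only [map_sub, map_smul, LinearMap.sub_apply, LinearMap.smul_apply, smul_eq_mul] at this
          field_simp at this ⊢
          linear_combination this
        have hlu : β u w ≠ 0 := by
          intro h0
          obtain ⟨x, hx, hne'⟩ := hl
          exact hne' (by rw [hr x hx, h0]; simp)
        have heq : ∀ x ∈ U, ψ x = (ψ u / β u w) * β x w := fun x hx => by
          rw [hr x hx]; field_simp
        have hwU : w ∈ U := by
          by_contra hw
          obtain ⟨β', h1, h2⟩ := T.extend S.odd hP hw (div_ne_zero hψu hlu) heq ⟨u, hu, hlu⟩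
            ⟨x₀, hx₀, hn₀⟩
          exact hw (hmax _ β' h1 le_sup_left h2
            (Submodule.mem_sup_right (Submodule.mem_span_singleton_self w)))
        have hnw : NR U β w := T.nr_right hu hwU hlu
        refine Or.inl ⟨hwU, hnw, -(ψ u / β u w), T.mem_A0 (fun x hx => ?_) hwU hnw ?_⟩
        · rw [LinearMap.sub_apply, LinearMap.smul_apply, smul_eq_mul, T.skew hx hwU, heq x hx]
          ring
        · convert hP.addR ((T.tin w hwU hnw).smulR (ψ u / β u w)) using 1
          module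
      · push Not at hl
        obtain ⟨x, hx, hn, hψx⟩ := T.exists_nr hx₀ hn₀ hψ
        exact Or.inr (Or.inl (T.mem_C0 hl hx hn (hP.comm (T.tin x hx hn) (hl x hx) hψx)))
    · push Not at hψ
      by_cases hl : ∃ x ∈ U, β x w ≠ 0
      · obtain ⟨x, hx, hn, hlx⟩ := T.exists_nr hx₀ hn₀ (f := β.flip w) hl
        exact Or.inr (Or.inr (Or.inl (T.mem_A0 hψ hx hn ((T.tin x hx hn).comm hP (hψ x hx) hlx))))
      · push Not at hl
        exact Or.inr (Or.inr (Or.inr ⟨hl, hψ⟩))
  have horth : ∀ η ∈ A0 H U β, ∀ z ∈ C0 H U β, η z = 0 := by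
    intro η hη z hz
    by_contra h
    exact hns (T.seed hx₀ hy₀ hxy₀ (hη.2 x₀ hx₀ hn₀) (hz.2 x₀ hx₀ hn₀)
      (Submodule.mem_sup_left (Submodule.subset_span (by simp))) (Or.inr hxy₀)
      ⟨η, Submodule.mem_sup_right (Submodule.mem_span_singleton_self η), hη.1 x₀ hx₀, hη.1 y₀ hy₀, h⟩)
  have hC0 : C0 H U β = ⊥ := by
    have iC0 : Inv H (C0 H U β) := S.inv_of_tin fun w ψ hP z hz => by
      by_cases h0 : ψ z = 0
      · rw [h0, zero_smul]; exact zero_mem _
      refine Submodule.smul_mem _ _ ?_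
      rcases hcase w ψ hP with ⟨hwU, hnw, k, hk⟩ | h | h | ⟨h1, h2⟩
      · have := horth _ hk z hz
        rw [LinearMap.sub_apply, LinearMap.smul_apply, hz.1 w hwU, smul_zero, sub_zero] at this
        exact absurd this h0
      · exact h
      · exact absurd (horth _ h z hz) h0
      · exact T.mem_C0 h1 hx₀ hn₀ (hP.comm (hz.2 x₀ hx₀ hn₀) (h1 x₀ hx₀) h0)
    rw [Submodule.eq_bot_iff]
    intro z hz
    rcases (hz.2 x₀ hx₀ hn₀).eq_zero_of_inv S iC0 hz (fun a ha => ha.1 x₀ hx₀) with h | h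
    · exact absurd (by rw [h]; rfl) hxy₀
    · exact h
  have hA0 : A0 H U β = ⊥ := by
    obtain ⟨W, hW⟩ : ∃ W, W = (A0 H U β).dualCoannihilator := ⟨_, rfl⟩
    have hWm : ∀ a, a ∈ W ↔ ∀ η ∈ A0 H U β, η a = 0 := fun a => by
      rw [hW, Submodule.mem_dualCoannihilator]
    have iW : Inv H W := S.inv_of_tin fun w ψ hP a ha => by
      by_cases h0 : ψ a = 0
      · rw [h0, zero_smul]; exact W.zero_mem
      refine W.smul_mem _ ((hWm w).2 fun η hη => ?_)
      rcases hcase w ψ hP with ⟨hwU, -, -, -⟩ | h | h | ⟨-, h2⟩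
      · exact hη.1 w hwU
      · rw [hC0, Submodule.mem_bot] at h
        rw [h, map_zero]
      · exact absurd ((hWm a).1 ha ψ h) h0
      · by_contra hc
        exact h0 ((hWm a).1 ha ψ (T.mem_A0 h2 hx₀ hn₀ ((hη.2 x₀ hx₀ hn₀).comm hP (h2 x₀ hx₀) hc)))
    rw [Submodule.eq_bot_iff]
    intro η hη
    rcases (hη.2 x₀ hx₀ hn₀).eq_zero_of_inv S iW ((hWm x₀).2 fun f hf => hf.1 x₀ hx₀)
      (fun a ha => (hWm a).1 ha η hη) with h | h
    · exact h
    · exact absurd (by rw [h, map_zero]; rfl) hxy₀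
  -- inside or outside
  have hio : ∀ w ψ, Tin H w ψ → w ≠ 0 → ψ ≠ 0 →
      (w ∈ U ∧ ∃ k : ZMod p, ψ = k • β w) ∨ ((∀ x ∈ U, β x w = 0) ∧ ∀ x ∈ U, ψ x = 0) := by
    intro w ψ hP hw hψ
    rcases hcase w ψ hP with ⟨hwU, -, k, hk⟩ | h | h | h
    · rw [hA0, Submodule.mem_bot, sub_eq_zero] at hk
      exact Or.inl ⟨hwU, k, hk⟩
    · rw [hC0, Submodule.mem_bot] at h
      exact absurd h hw
    · rw [hA0, Submodule.mem_bot] at h
      exact absurd h hψ
    · exact Or.inr h
  have inv_of : ∀ (A : Submodule (ZMod p) V),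
      (∀ w ψ, Tin H w ψ → w ≠ 0 → ψ ≠ 0 → ∀ a ∈ A, ψ a ≠ 0 → w ∈ A) → Inv H A :=
    fun A h => S.inv_of_tin fun w ψ hP a ha => by
      by_cases h0 : ψ a = 0
      · rw [h0, zero_smul]; exact A.zero_mem
      by_cases hw : w = 0
      · rw [hw, smul_zero]; exact A.zero_mem
      exact A.smul_mem _ (h w ψ hP hw (fun h' => h0 (by rw [h']; rfl)) a ha h0)
  -- the radical is zero
  have hrad : ∀ r ∈ U, (∀ y ∈ U, β r y = 0) → r = 0 := by
    intro r hr hr0
    by_cases hbr : β r = 0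
    · have hz : r ∈ C0 H U β := by
        refine ⟨fun u hu => by rw [T.skew hr hu, hr0 u hu, neg_zero], fun x hx hn => ?_⟩
        have hsum : Tin H (x + r) (β x) := by
          have := T.tin (x + r) (U.add_mem hx hr) (by
            obtain ⟨y, hy, h⟩ := hn
            exact ⟨y, hy, by simp [hr0 y hy, h]⟩)
          rwa [map_add, hbr, add_zero] at this
        have := hsum.addL ((T.tin x hx hn).smulL (-1))
        rwa [neg_one_smul, add_neg_cancel_comm] at this
      rwa [hC0, Submodule.mem_bot] at hz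
    · have hker : ∀ a ∈ LinearMap.ker (β r), β r a = 0 := fun a ha => ha
      have iA : Inv H (Submodule.span (ZMod p) {r}) := inv_of _ fun w ψ hP hw hψ a ha h0 => by
        obtain ⟨c, rfl⟩ := Submodule.mem_span_singleton.1 ha
        exfalso
        rcases hio w ψ hP hw hψ with ⟨hwU, k, rfl⟩ | ⟨-, h2⟩
        · exact h0 (by simp [T.skew hr hwU, hr0 w hwU])
        · exact h0 (by simp [h2 r hr])
      have iB : Inv H (LinearMap.ker (β r)) := inv_of _ fun w ψ hP hw hψ a _ _ => by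
        rcases hio w ψ hP hw hψ with ⟨hwU, -⟩ | ⟨h1, -⟩
        · exact hr0 w hwU
        · exact h1 r hr
      have hn₁ : NR U β (x₀ + r) := ⟨y₀, hy₀, by simp [hr0 y₀ hy₀, hxy₀]⟩
      obtain ⟨d, g, hg, e⟩ := T.tin _ (U.add_mem hx₀ hr) hn₁
      obtain ⟨d', g', hg', e'⟩ := (T.tin x₀ hx₀ hn₀).smulR (-1)
      have hxr : β x₀ r = 0 := by rw [T.skew hr hx₀, hr0 x₀ hx₀, neg_zero]
      have hrr : β r r = 0 := hr0 r hr
      have hrx : β r x₀ = 0 := hr0 x₀ hx₀
      have key : ∀ z, (g * g') z = z + β x₀ z • r + β r z • (x₀ + r) := by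
        intro z
        rw [LinearEquiv.mul_apply, e', e]
        simp only [map_add, map_smul, LinearMap.add_apply, LinearMap.smul_apply, smul_eq_mul,
          T.alt x₀ hx₀, hrx]
        module
      have h1 : g * g' = 1 := by
        refine S.eq_one_of_flag iA iB (H.mul_mem hg hg') ?_ ?_ ?_
        · intro a ha
          obtain ⟨c, rfl⟩ := Submodule.mem_span_singleton.1 ha
          simp [key, hxr, hrr]
        · intro b hb
          rw [key, hker b hb, zero_smul, add_zero, add_sub_cancel_left]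
          exact Submodule.smul_mem _ _ (Submodule.mem_span_singleton_self r)
        · intro z
          rw [key, LinearMap.mem_ker]
          simp [hrr, hrx]
      have := key y₀
      rw [h1, LinearEquiv.coe_one, id, hr0 y₀ hy₀, zero_smul, add_zero, left_eq_add,
        smul_eq_zero] at this
      exact this.resolve_left hxy₀
  obtain ⟨C, hC⟩ : ∃ C : Submodule (ZMod p) V, C = (U.map β).dualCoannihilator := ⟨_, rfl⟩
  have hCm : ∀ c, c ∈ C ↔ ∀ x ∈ U, β x c = 0 := fun c => by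
    rw [hC, Submodule.mem_dualCoannihilator]
    exact ⟨fun h x hx => h _ ⟨x, hx, rfl⟩, fun h f hf => by
      obtain ⟨x, hx, rfl⟩ := hf; exact h x hx⟩
  have hnrad : ∀ u ∈ U, u ≠ 0 → NR U β u := fun u hu h => by
    by_contra hc
    exact h (hrad u hu fun y hy => by_contra fun h' => hc ⟨y, hy, h'⟩)
  have hcompl : IsCompl U C := by
    refine ⟨?_, ?_⟩
    · rw [disjoint_iff, Submodule.eq_bot_iff]
      exact fun a ha => hrad a ha.1 fun y hy => by
        rw [T.skew hy ha.1, (hCm a).1 ha.2 y hy, neg_zero]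
    · obtain ⟨L, hL⟩ : ∃ L : U →ₗ[ZMod p] Module.Dual (ZMod p) U,
          L = (LinearMap.lcomp (ZMod p) (ZMod p) U.subtype) ∘ₗ β ∘ₗ U.subtype := ⟨_, rfl⟩
      have i1 : Function.Injective L := by
        rw [← LinearMap.ker_eq_bot, Submodule.eq_bot_iff]
        intro u hu
        refine Subtype.ext (hrad u u.2 fun y hy => ?_)
        have := LinearMap.congr_fun (LinearMap.mem_ker.1 hu) ⟨y, hy⟩
        simpa [hL] using this
      have hs : Function.Surjective L :=
        (LinearMap.injective_iff_surjective_of_finrank_eq_finrank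
          (Subspace.dual_finrank_eq).symm).1 i1
      rw [codisjoint_iff, Submodule.eq_top_iff']
      intro z
      obtain ⟨u, hu⟩ := hs (-(β.flip z ∘ₗ U.subtype))
      refine Submodule.mem_sup.2 ⟨u, u.2, z - u, (hCm _).2 fun x hx => ?_, by abel⟩
      have := LinearMap.congr_fun hu ⟨x, hx⟩
      simp [hL] at this
      rw [map_sub, T.skew u.2 hx, this, neg_neg, sub_self]
  refine ⟨C, ⟨hcompl, ?_, ?_, ?_, Or.inr ⟨β, T.alt, hrad, fun x hx c hc => (hCm c).1 hc x hx,
    fun x hx => ?_, ?_⟩⟩, fun x hx c hc => (hCm c).1 hc x hx⟩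
  · intro v φ hP hv hφ
    rcases hio v φ hP hv hφ with ⟨hvU, k, rfl⟩ | ⟨h1, h2⟩
    · exact Or.inl ⟨hvU, fun c hc => by simp [(hCm c).1 hc v hvU]⟩
    · exact Or.inr ⟨(hCm v).2 h1, h2⟩
  · intro u hu hu0
    obtain ⟨y, hy, h⟩ := hnrad u hu hu0
    exact ⟨β u, fun h' => h (by rw [h']; rfl), T.tin u hu ⟨y, hy, h⟩, fun c hc => (hCm c).1 hc u hu⟩
  · intro u hu hu0
    obtain ⟨y, hy, h⟩ := hnrad u hu hu0
    refine ⟨y, β y, fun h' => h (by rw [h', map_zero]), T.tin y hy (T.nr_right hu hy h),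
      ⟨hy, fun c hc => (hCm c).1 hc y hy⟩, ?_⟩
    rw [T.skew hu hy]
    simpa
  · by_cases h : x = 0
    · rw [h]; exact tin_zero_left
    · exact T.tin x hx (hnrad x hx h)
  · intro v φ hP hv hin
    by_cases hφ : φ = 0
    · exact ⟨0, by rw [hφ, zero_smul]⟩
    rcases hio v φ hP hv hφ with ⟨-, h⟩ | ⟨h1, -⟩
    · exact h
    · refine absurd ?_ hv
      exact hrad v hin.1 fun y hy => by rw [T.skew hy hin.1, h1 y hy, neg_zero]

/-- A component containing one vector of a state contains the whole state. -/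
theorem St.inside_of_comp (T : St H U β) {U' C' : Submodule (ZMod p) V} (K : Comp H U' C') {x : V}
    (hx : x ∈ U) (hn : NR U β x) (hxU : x ∈ U') (hxC : ∀ c ∈ C', β x c = 0) {z : V} (hz : z ∈ U)
    (hz' : NR U β z) : Inside U' C' z (β z) := by
  have step : ∀ {a b}, a ∈ U → b ∈ U → β a b ≠ 0 → Inside U' C' a (β a) → Inside U' C' b (β b) := by
    intro a b ha hb h hin
    rcases K.dich b (β b) (T.tin b hb (T.nr_right ha hb h)) (fun h' => h (by rw [h', map_zero]))
      (fun h' => by have := T.skew ha hb; rw [h', LinearMap.zero_apply] at this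
                    exact h (neg_eq_zero.1 this.symm)) with h1 | h1
    · exact h1
    · exact absurd (hin.2 b h1.1) h
  obtain ⟨y, hy, h1, h2⟩ := T.connect hx hz hn hz'
  exact step hy hz h2 (step hx hy h1 ⟨hxU, hxC⟩)

/-- Every transvection of `H` lies in a component. -/
theorem Setup.exists_comp [Finite V] (S : Setup H) {v : V} {φ : Module.Dual (ZMod p) V}
    (h : Tin H v φ) (hv : v ≠ 0) (hφ : φ ≠ 0) : ∃ U C, Comp H U C ∧ Inside U C v φ := by
  obtain ⟨w, ψ, hw, ha, hb⟩ := S.exists_mutual h hv hφ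
  obtain ⟨c, hc⟩ : ∃ c, c = -(φ w) / ψ v := ⟨_, rfl⟩
  obtain ⟨β, hβ⟩ : ∃ β : V →ₗ[ZMod p] Module.Dual (ZMod p) V,
      β = ((ψ v)⁻¹ • ψ).smulRight φ + ((φ w)⁻¹ • φ).smulRight (c • ψ) := ⟨_, rfl⟩
  have bv : β v = φ := by simp [hβ, h.dot, hb]
  have bw : β w = c • ψ := by simp [hβ, hw.dot, ha]
  have halt : ∀ x ∈ Submodule.span (ZMod p) {v, w}, β x x = 0 := by
    intro x hx
    obtain ⟨i, j, rfl⟩ := Submodule.mem_span_pair.1 hx
    simp only [map_add, map_smul, LinearMap.add_apply, LinearMap.smul_apply, smul_eq_mul, bv, bw,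
      h.dot, hw.dot, hc]
    field_simp
    ring
  have hT : St H (Submodule.span (ZMod p) {v, w}) β := by
    refine ⟨halt, fun x hx _ => ?_⟩
    obtain ⟨i, j, rfl⟩ := Submodule.mem_span_pair.1 hx
    have Sv : Tin H v (β v) := bv.symm ▸ h
    have Sw : Tin H w (β w) := bw.symm ▸ hw.smulR c
    by_cases hi : i = 0
    · subst hi
      rw [zero_smul, zero_add]
      exact Sw.scale j
    · have hl := (Sv.line Sw (skew_of_alt halt (Submodule.subset_span (by simp))
        (Submodule.subset_span (by simp))) (by rw [bv]; exact ha) (j / i)).scale i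
      rwa [smul_add, smul_smul, mul_div_cancel₀ _ hi] at hl
  obtain ⟨⟨U, β'⟩, ⟨hle, hag, hT'⟩, hmax⟩ := Set.exists_max_image
    {q : Submodule (ZMod p) V × (V →ₗ[ZMod p] Module.Dual (ZMod p) V) |
      Submodule.span (ZMod p) {v, w} ≤ q.1 ∧ q.2 v = φ ∧ St H q.1 q.2}
    (fun q => Module.finrank (ZMod p) q.1)
    (by
      have : Finite (Module.Dual (ZMod p) V) := DFunLike.finite _
      have : Finite (V →ₗ[ZMod p] Module.Dual (ZMod p) V) := DFunLike.finite _
      exact Set.toFinite _)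
    ⟨(Submodule.span (ZMod p) {v, w}, β), le_rfl, bv, hT⟩
  change Submodule.span (ZMod p) {v, w} ≤ U at hle
  change β' v = φ at hag
  change St H U β' at hT'
  have hvU : v ∈ U := hle (Submodule.subset_span (by simp))
  have hwU : w ∈ U := hle (Submodule.subset_span (by simp))
  have hnv : NR U β' v := ⟨w, hwU, by rw [hag]; exact ha⟩
  by_cases hs : Seed H U β'
  · obtain ⟨U₀, E₀, x, hC₀, hD₀, hxU, hnx, hx0, hbx⟩ := hs
    obtain ⟨U', C', K, hU', hE'⟩ := S.exists_comp_sl hC₀ hD₀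
    have := hT'.inside_of_comp K hxU hnx (hU' hx0) (fun c hc => hE' _ hbx c hc) hvU hnv
    rw [hag] at this
    exact ⟨U', C', K, this⟩
  · obtain ⟨C, K, hK⟩ := hT'.exists_comp_sp S ⟨v, hvU, hnv⟩ hs (fun U₂ β₂ h₂ hUle hag₂ => by
      have h' := hmax (U₂, β₂) ⟨hle.trans hUle, by rw [← hag]; exact hag₂ v hvU, h₂⟩
      exact (Submodule.eq_of_le_of_finrank_le hUle h').ge)
    exact ⟨U, C, K, hvU, fun c hc => hag ▸ hK v hvU c hc⟩

end Cfsg.Agent.OddTrans
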