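import Cfsg.Agent.Lib.OddTrans.Sys

/-!
Components of transvection groups: the special linear case, from a closed pair of rank three.
-/

set_option autoImplicit false

namespace Cfsg.Agent.OddTrans

variable {p : ℕ} [Fact p.Prime] {V : Type*} [AddCommGroup V] [Module (ZMod p) V]

/-- Evaluation pairing. -/
abbrev ev (p : ℕ) (V : Type*) [AddCommGroup V] [Module (ZMod p) V] :
    V →ₗ[ZMod p] Module.Dual (ZMod p) V →ₗ[ZMod p] ZMod p :=
  Module.Dual.eval (ZMod p) V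

variable {H : Subgroup (V ≃ₗ[ZMod p] V)}

theorem tin_sys : Sys (ev p V) (Tin H) where
  addL := Tin.addL
  addR := Tin.addR
  smulL := fun c h => h.smulL c
  smulR := fun c h => h.smulR c
  comm := fun h h' h1 h2 => h.comm h' h1 h2

/-- `(v, φ)` lies in the summand `U` along `C`. -/
def Inside (U C : Submodule (ZMod p) V) (v : V) (φ : Module.Dual (ZMod p) V) : Prop :=
  v ∈ U ∧ ∀ c ∈ C, φ c = 0

/-- A component of a transvection group. -/
structure Comp (H : Subgroup (V ≃ₗ[ZMod p] V)) (U C : Submodule (ZMod p) V) : Prop where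
  compl : IsCompl U C
  dich : ∀ v φ, Tin H v φ → v ≠ 0 → φ ≠ 0 → Inside U C v φ ∨ Inside C U v φ
  axis : ∀ u ∈ U, u ≠ 0 → ∃ φ, φ ≠ 0 ∧ Tin H u φ ∧ ∀ c ∈ C, φ c = 0
  sep : ∀ u ∈ U, u ≠ 0 → ∃ v φ, v ≠ 0 ∧ Tin H v φ ∧ Inside U C v φ ∧ φ u ≠ 0
  kind : (∀ u ∈ U, ∀ φ : Module.Dual (ZMod p) V, (∀ c ∈ C, φ c = 0) → φ u = 0 → Tin H u φ) ∨
    ∃ β : V →ₗ[ZMod p] Module.Dual (ZMod p) V, (∀ x ∈ U, β x x = 0) ∧
      (∀ x ∈ U, (∀ y ∈ U, β x y = 0) → x = 0) ∧ (∀ x ∈ U, ∀ c ∈ C, β x c = 0) ∧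
      (∀ x ∈ U, Tin H x (β x)) ∧
      ∀ v φ, Tin H v φ → v ≠ 0 → Inside U C v φ → ∃ k : ZMod p, φ = k • β v

variable [Finite V]

theorem Setup.exists_comp_sl (S : Setup H) {U₀ : Submodule (ZMod p) V}
    {E₀ : Submodule (ZMod p) (Module.Dual (ZMod p) V)} (hC₀ : Cl (ev p V) (Tin H) U₀ E₀)
    (hD₀ : DualSys (ev p V) U₀ E₀ 3) :
    ∃ U C, Comp H U C ∧ U₀ ≤ U ∧ ∀ e ∈ E₀, ∀ c ∈ C, e c = 0 := by
  have : Finite (Module.Dual (ZMod p) V) := DFunLike.finite _
  have hfin : Finite (Submodule (ZMod p) V × Submodule (ZMod p) (Module.Dual (ZMod p) V)) :=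
    inferInstance
  obtain ⟨⟨U, E⟩, ⟨hU₀, hE₀⟩, hmax⟩ :=
    Set.Finite.exists_le_maximal (Set.toFinite {q : Submodule (ZMod p) V ×
      Submodule (ZMod p) (Module.Dual (ZMod p) V) | Cl (ev p V) (Tin H) q.1 q.2 ∧
      DualSys (ev p V) q.1 q.2 3}) (a := (U₀, E₀)) ⟨hC₀, hD₀⟩
  obtain ⟨hC, hD⟩ := hmax.prop
  change U₀ ≤ U at hU₀
  change E₀ ≤ E at hE₀
  change Cl (ev p V) (Tin H) U E at hC
  change DualSys (ev p V) U E 3 at hD
  have hgE : ∀ {x : V} {ψ : Module.Dual (ZMod p) V}, x ∈ U → Tin H x ψ → (∃ e ∈ E, e x ≠ 0) → ψ ∈ E := by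
    intro x ψ hx hP h0
    have h1 := tin_sys.grow hC (hD.two (by norm_num)) hx hP h0
    have h2 := hmax.le_of_ge (y := (U, E ⊔ Submodule.span _ {ψ}))
      ⟨h1, hD.mono le_rfl le_sup_left⟩ ⟨le_rfl, le_sup_left⟩
    exact h2.2 (Submodule.mem_sup_right (Submodule.mem_span_singleton_self ψ))
  have hgU : ∀ {w : V} {e : Module.Dual (ZMod p) V}, e ∈ E → Tin H w e → (∃ x ∈ U, e x ≠ 0) → w ∈ U := by
    intro w e he hP h0
    have h1 := tin_sys.growL hC (fun f => hD.flip.two (by norm_num) f) he hP h0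
    have h2 := hmax.le_of_ge (y := (U ⊔ Submodule.span _ {w}, E))
      ⟨h1, hD.mono le_sup_left le_rfl⟩ ⟨le_sup_left, le_rfl⟩
    exact h2.1 (Submodule.mem_sup_right (Submodule.mem_span_singleton_self w))
  -- the three observations
  have hA : ∀ {w ψ}, Tin H w ψ → (∃ u ∈ U, ψ u ≠ 0) → w ∈ U := by
    intro w ψ hP hu
    obtain ⟨u, huU, hu⟩ := hu
    by_cases hw : ∃ e ∈ E, e w ≠ 0
    · obtain ⟨y, hy, e, he, h0, h1⟩ := hD.exists_kill (m := 2) (by norm_num) ![u, w]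
      have he_u : e u = 0 := h0 0
      have he_w : e w = 0 := h0 1
      have h1' : e y ≠ 0 := h1
      obtain ⟨x, hxdef⟩ : ∃ x, x = y - (ψ y / ψ u) • u := ⟨_, rfl⟩
      have hxU : x ∈ U := hxdef ▸ U.sub_mem hy (U.smul_mem _ huU)
      have hψx : ψ x = 0 := by
        rw [hxdef, map_sub, map_smul, smul_eq_mul]; field_simp; ring
      have hex : e x ≠ 0 := by
        rw [hxdef, map_sub, map_smul, he_u, smul_zero, sub_zero]; exact h1'
      obtain ⟨f, hf, hfw⟩ := hw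
      have hP' : Tin H x ψ := (hC x hxU (f - (f x / e x) • e) (E.sub_mem hf (E.smul_mem _ he))
        (by show (f - (f x / e x) • e) x = 0
            rw [LinearMap.sub_apply, LinearMap.smul_apply, smul_eq_mul]; field_simp; ring)).comm hP hψx
        (by rw [LinearMap.sub_apply, LinearMap.smul_apply, he_w, smul_zero, sub_zero]; exact hfw)
      exact hgU (hgE hxU hP' ⟨e, he, hex⟩) hP ⟨u, huU, hu⟩
    · push Not at hw
      obtain ⟨y, hy, e, he, h0, h1⟩ := hD.two (by norm_num) u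
      exact hgU he (hP.comm (hC u huU e he h0) (hw e he) hu) ⟨y, hy, h1⟩
  have hB : ∀ {w ψ}, Tin H w ψ → (∃ e ∈ E, e w ≠ 0) → ψ ∈ E := by
    intro w ψ hP he
    by_cases hu : ∃ u ∈ U, ψ u ≠ 0
    · exact hgE (hA hP hu) hP he
    · push Not at hu
      obtain ⟨f, hf, hfw⟩ := he
      obtain ⟨e', he', y, hy, h0, h1⟩ := hD.flip.two (by norm_num) f
      exact hgE hy ((hC y hy f hf h0).comm hP (hu y hy) hfw) ⟨e', he', h1⟩
  obtain ⟨C, hCdef⟩ : ∃ C, C = E.dualCoannihilator := ⟨_, rfl⟩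
  have hCmem : ∀ x, x ∈ C ↔ ∀ e ∈ E, e x = 0 := fun x => by
    rw [hCdef, Submodule.mem_dualCoannihilator]
  have iU : Inv H U := S.inv_of_tin fun v φ h a ha => by
    by_cases h0 : φ a = 0
    · rw [h0, zero_smul]; exact U.zero_mem
    · exact U.smul_mem _ (hA h ⟨a, ha, h0⟩)
  have iC : Inv H C := S.inv_of_tin fun v φ h a ha => by
    by_cases h0 : φ a = 0
    · rw [h0, zero_smul]; exact C.zero_mem
    · refine C.smul_mem _ ((hCmem v).2 fun e he => ?_)
      by_contra hev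
      exact h0 ((hCmem a).1 ha φ (hB h ⟨e, he, hev⟩))
  have iR : Inv H (U ⊓ C) := fun h hh a ha => ⟨iU h hh a ha.1, iC h hh a ha.2⟩
  obtain ⟨y₀, hy₀, e₀, he₀, -, h₀⟩ := hD.two (by norm_num) 0
  have hR : ∀ r ∈ U, (∀ e ∈ E, e r = 0) → r = 0 := by
    intro r hr h
    have hP : Tin H r e₀ := hC r hr e₀ he₀ (h e₀ he₀)
    rcases hP.eq_zero_of_inv S iR ⟨hr, (hCmem r).2 h⟩ (fun x hx => (hCmem x).1 hx.2 e₀ he₀) with
      h1 | h1
    · simp [h1] at h₀
    · exact h1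
  have hS : ∀ e ∈ E, (∀ u ∈ U, e u = 0) → e = 0 := by
    intro e he h
    rcases (hC y₀ hy₀ e he (h y₀ hy₀)).eq_zero_of_inv S iU hy₀ h with h1 | h1
    · exact h1
    · simp [h1] at h₀
  -- the pairing is perfect
  have hsurjU : ∀ f : E →ₗ[ZMod p] ZMod p, ∃ u ∈ U, ∀ e : E, e.1 u = f e := by
    obtain ⟨T, hT⟩ : ∃ T : U →ₗ[ZMod p] (E →ₗ[ZMod p] ZMod p),
        T = (LinearMap.lcomp (ZMod p) (ZMod p) E.subtype) ∘ₗ (ev p V) ∘ₗ U.subtype := ⟨_, rfl⟩
    obtain ⟨T', hT'⟩ : ∃ T' : E →ₗ[ZMod p] (U →ₗ[ZMod p] ZMod p),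
        T' = (LinearMap.lcomp (ZMod p) (ZMod p) U.subtype) ∘ₗ E.subtype := ⟨_, rfl⟩
    have i1 : Function.Injective T := by
      rw [← LinearMap.ker_eq_bot, Submodule.eq_bot_iff]
      intro u hu
      refine Subtype.ext (hR u u.2 fun e he => ?_)
      have := LinearMap.congr_fun (LinearMap.mem_ker.1 hu) ⟨e, he⟩
      simpa [hT] using this
    have i2 : Function.Injective T' := by
      rw [← LinearMap.ker_eq_bot, Submodule.eq_bot_iff]
      intro e he
      refine Subtype.ext (hS e e.2 fun u hu => ?_)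
      have := LinearMap.congr_fun (LinearMap.mem_ker.1 he) ⟨u, hu⟩
      simpa [hT'] using this
    have d1 := LinearMap.finrank_le_finrank_of_injective i1
    have d2 := LinearMap.finrank_le_finrank_of_injective i2
    rw [Module.finrank_linearMap, Module.finrank_self, mul_one] at d1 d2
    have hs : Function.Surjective T :=
      (LinearMap.injective_iff_surjective_of_finrank_eq_finrank
        (by rw [Module.finrank_linearMap, Module.finrank_self, mul_one]; omega)).1 i1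
    intro f
    obtain ⟨u, hu⟩ := hs f
    exact ⟨u, u.2, fun e => by
      have := LinearMap.congr_fun hu e
      simpa [hT] using this⟩
  have hcompl : IsCompl U C := by
    refine ⟨?_, ?_⟩
    · rw [disjoint_iff, Submodule.eq_bot_iff]
      exact fun x hx => hR x hx.1 ((hCmem x).1 hx.2)
    · rw [codisjoint_iff, Submodule.eq_top_iff']
      intro x
      obtain ⟨u, hu, he⟩ := hsurjU ((ev p V x) ∘ₗ E.subtype)
      refine Submodule.mem_sup.2 ⟨u, hu, x - u, (hCmem _).2 fun e he' => ?_, by abel⟩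
      have := he ⟨e, he'⟩
      simp only [LinearMap.comp_apply, Submodule.subtype_apply, Module.Dual.eval_apply] at this
      rw [map_sub, this, sub_self]
  have hEC : ∀ φ : Module.Dual (ZMod p) V, (∀ c ∈ C, φ c = 0) → φ ∈ E := by
    intro φ h
    have : φ ∈ E.dualCoannihilator.dualAnnihilator := by
      rw [Submodule.mem_dualAnnihilator, ← hCdef]; exact h
    rwa [Subspace.dualCoannihilator_dualAnnihilator_eq] at this
  refine ⟨U, C, ⟨hcompl, ?_, ?_, ?_, Or.inl fun u hu φ h h0 => hC u hu φ (hEC φ h) h0⟩, hU₀,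
    fun e he c hc => (hCmem c).1 hc e (hE₀ he)⟩
  · intro v φ hP hv hφ
    by_cases hu : ∃ u ∈ U, φ u ≠ 0
    · have hvU := hA hP hu
      have hev : ∃ e ∈ E, e v ≠ 0 := by
        by_contra hne
        push Not at hne
        exact hv (hR v hvU hne)
      exact Or.inl ⟨hvU, fun c hc => (hCmem c).1 hc φ (hB hP hev)⟩
    · push Not at hu
      refine Or.inr ⟨(hCmem v).2 fun e he => ?_, hu⟩
      by_contra hev
      exact hφ (hS φ (hB hP ⟨e, he, hev⟩) hu)
  · intro u hu _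
    obtain ⟨y, hy, e, he, h0, h1⟩ := hD.two (by norm_num) u
    refine ⟨e, fun h => ?_, hC u hu e he h0, fun c hc => (hCmem c).1 hc e he⟩
    rw [h] at h1; simp at h1
  · intro u hu hu0
    obtain ⟨f, hf, hfu⟩ : ∃ f ∈ E, f u ≠ 0 := by
      by_contra hne
      push Not at hne
      exact hu0 (hR u hu hne)
    obtain ⟨e', he', y, hy, h0, h1⟩ := hD.flip.two (by norm_num) f
    refine ⟨y, f, ?_, hC y hy f hf h0, ⟨hy, fun c hc => (hCmem c).1 hc f hf⟩, hfu⟩
    rintro rfl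
    simp at h1

end Cfsg.Agent.OddTrans
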