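import Cfsg.Agent.Lib.OddTrans.SLComp

/-!
Components of transvection groups: symplectic states and the existence of components.
-/

set_option autoImplicit false

namespace Cfsg.Agent.OddTrans

variable {p : ℕ} [Fact p.Prime] {V : Type*} [AddCommGroup V] [Module (ZMod p) V]
variable {H : Subgroup (V ≃ₗ[ZMod p] V)} {U : Submodule (ZMod p) V}
  {β : V →ₗ[ZMod p] Module.Dual (ZMod p) V}

/-- `x` is not in the radical. -/
def NR (U : Submodule (ZMod p) V) (β : V →ₗ[ZMod p] Module.Dual (ZMod p) V) (x : V) : Prop :=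
  ∃ y ∈ U, β x y ≠ 0

/-- A symplectic state. -/
structure St (H : Subgroup (V ≃ₗ[ZMod p] V)) (U : Submodule (ZMod p) V)
    (β : V →ₗ[ZMod p] Module.Dual (ZMod p) V) : Prop where
  alt : ∀ x ∈ U, β x x = 0
  tin : ∀ x ∈ U, NR U β x → Tin H x (β x)

theorem skew_of_alt (h : ∀ x ∈ U, β x x = 0) {x y : V} (hx : x ∈ U) (hy : y ∈ U) :
    β y x = -β x y := by
  have := h (x + y) (U.add_mem hx hy)
  simp only [map_add, LinearMap.add_apply, h x hx, h y hy] at this
  linear_combination this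

theorem Tin.scale {x : V} (h : Tin H x (β x)) (c : ZMod p) : Tin H (c • x) (β (c • x)) := by
  rw [map_smul]; exact (h.smulL c).smulR c

theorem Tin.line {x y : V} (hx : Tin H x (β x)) (hy : Tin H y (β y)) (hsk : β y x = -β x y)
    (h : β x y ≠ 0) (j : ZMod p) : Tin H (x + j • y) (β (x + j • y)) := by
  obtain ⟨s, hs⟩ : ∃ s, s = j / β y x := ⟨_, rfl⟩
  obtain ⟨d, g, hg, e⟩ := hy.smulR s
  have h1 := hx.conj hg
  have hne : β y x ≠ 0 := by rw [hsk]; simpa
  have hgx : g x = x + j • y := by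
    rw [e, LinearMap.smul_apply, smul_eq_mul, hs]; field_simp
  have hβ : (β x) ∘ₗ (g.symm : V →ₗ[ZMod p] V) = β (x + j • y) := by
    refine LinearMap.ext fun z => ?_
    have hz : g.symm z = z - (s * β y z) • y := by
      rw [LinearEquiv.symm_apply_eq, map_sub, map_smul, e, e y, LinearMap.smul_apply, smul_eq_mul,
        LinearMap.smul_apply, smul_eq_mul, hy.dot]
      module
    simp only [LinearMap.comp_apply, LinearEquiv.coe_coe, hz, map_sub, map_smul, map_add,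
      LinearMap.add_apply, LinearMap.smul_apply, smul_eq_mul, hs]
    rw [hsk]
    field_simp
    ring
  rwa [hgx, hβ] at h1

theorem St.skew (T : St H U β) {x y : V} (hx : x ∈ U) (hy : y ∈ U) : β y x = -β x y :=
  skew_of_alt T.alt hx hy

theorem St.nr_left (_T : St H U β) {x y : V} (hy : y ∈ U) (h : β x y ≠ 0) : NR U β x := ⟨y, hy, h⟩

theorem St.nr_right (T : St H U β) {x y : V} (hx : x ∈ U) (hy : y ∈ U) (h : β x y ≠ 0) : NR U β y :=
  ⟨x, hx, by rw [T.skew hx hy]; simpa⟩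

/-- Two functionals nonzero on `U` have a common nonzero value. -/
theorem exists_two {f g : Module.Dual (ZMod p) V} (hf : ∃ x ∈ U, f x ≠ 0) (hg : ∃ x ∈ U, g x ≠ 0) :
    ∃ x ∈ U, f x ≠ 0 ∧ g x ≠ 0 := by
  obtain ⟨a, ha, hfa⟩ := hf
  obtain ⟨b, hb, hgb⟩ := hg
  by_cases h1 : g a = 0
  · by_cases h2 : f b = 0
    · exact ⟨a + b, U.add_mem ha hb, by simp [h2, hfa], by simp [h1, hgb]⟩
    · exact ⟨b, hb, h2, hgb⟩
  · exact ⟨a, ha, hfa, h1⟩

theorem exists_scalar (hp : Odd p) (a b : ZMod p) (hb : a ≠ 0 ∨ b ≠ 0) :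
    ∃ t : ZMod p, t ≠ 0 ∧ a - t * b ≠ 0 := by
  have h2 : (2 : ZMod p) ≠ 0 := by
    intro h
    have h' : ((2 : ℕ) : ZMod p) = 0 := by exact_mod_cast h
    rw [ZMod.natCast_eq_zero_iff] at h'
    have := Nat.le_of_dvd two_pos h'
    have h3 := (Fact.out : p.Prime).two_le
    obtain ⟨k, hk⟩ := hp
    omega
  by_cases h : a - 1 * b = 0
  · refine ⟨2, h2, fun h' => ?_⟩
    have hb0 : b = 0 := by linear_combination h - h'
    have ha0 : a = 0 := by linear_combination h + hb0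
    exact hb.elim (fun g => g ha0) (fun g => g hb0)
  · exact ⟨1, one_ne_zero, h⟩

/-- Three functionals nonzero on `U` have a common nonzero value. -/
theorem exists_three (hp : Odd p) {f g e : Module.Dual (ZMod p) V} (hf : ∃ x ∈ U, f x ≠ 0)
    (hg : ∃ x ∈ U, g x ≠ 0) (he : ∃ x ∈ U, e x ≠ 0) :
    ∃ x ∈ U, f x ≠ 0 ∧ g x ≠ 0 ∧ e x ≠ 0 := by
  obtain ⟨y, hy, hfy, hgy⟩ := exists_two hf hg
  by_cases hey : e y = 0
  · obtain ⟨a, ha, hea⟩ := he
    obtain ⟨y₃, hy₃def⟩ : ∃ z, z = a - (f a / f y) • y := ⟨_, rfl⟩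
    have h3U : y₃ ∈ U := hy₃def ▸ U.sub_mem ha (U.smul_mem _ hy)
    have h3f : f y₃ = 0 := by rw [hy₃def, map_sub, map_smul, smul_eq_mul]; field_simp; ring
    have h3e : e y₃ ≠ 0 := by rw [hy₃def, map_sub, map_smul, hey, smul_zero, sub_zero]; exact hea
    obtain ⟨t, ht, h⟩ := exists_scalar hp (g y) (g y₃) (Or.inl hgy)
    refine ⟨y - t • y₃, U.sub_mem hy (U.smul_mem _ h3U), ?_, ?_, ?_⟩
    · rw [map_sub, map_smul, h3f, smul_zero, sub_zero]; exact hfy
    · rwa [map_sub, map_smul, smul_eq_mul]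
    · rw [map_sub, map_smul, hey, zero_sub, neg_ne_zero, smul_eq_mul]; exact mul_ne_zero ht h3e
  · exact ⟨y, hy, hfy, hgy, hey⟩

theorem St.exists_nr (T : St H U β) {x₀ : V} (hx₀ : x₀ ∈ U) (h₀ : NR U β x₀)
    {f : Module.Dual (ZMod p) V} (hf : ∃ x ∈ U, f x ≠ 0) : ∃ x ∈ U, NR U β x ∧ f x ≠ 0 := by
  obtain ⟨x, hx, h1, h2⟩ := exists_two h₀ hf
  exact ⟨x, hx, T.nr_right hx₀ hx h1, h2⟩

theorem St.plane (T : St H U β) {x y : V} (hx : x ∈ U) (hy : y ∈ U) (h : β x y ≠ 0) :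
    Cl (ev p V) (Tin H) (Submodule.span _ {x, y}) (Submodule.span _ {β x, β y}) := by
  intro z hz e he h0
  obtain ⟨a, b, rfl⟩ := Submodule.mem_span_pair.1 hz
  obtain ⟨c, d, rfl⟩ := Submodule.mem_span_pair.1 he
  change (c • β x + d • β y) (a • x + b • y) = 0 at h0
  simp only [LinearMap.add_apply, LinearMap.smul_apply, map_add, map_smul, smul_eq_mul,
    T.alt x hx, T.alt y hy, T.skew hx hy] at h0
  have hcd : c * b = d * a :=
    mul_right_cancel₀ h (by linear_combination h0)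
  have hzU : a • x + b • y ∈ U := U.add_mem (U.smul_mem _ hx) (U.smul_mem _ hy)
  by_cases ha : a = 0
  · by_cases hb : b = 0
    · rw [ha, hb, zero_smul, zero_smul, add_zero]; exact tin_zero_left
    · have hc : c = 0 := by
        rw [ha, mul_zero, mul_eq_zero] at hcd; exact hcd.resolve_right hb
      have hn : NR U β (a • x + b • y) := ⟨x, hx, by simp [ha, T.skew hx hy, hb, h]⟩
      convert (T.tin _ hzU hn).smulR (d / b) using 1
      simp [ha, hc, smul_smul, hb]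
  · have hn : NR U β (a • x + b • y) := ⟨y, hy, by simp [T.alt y hy, ha, h]⟩
    convert (T.tin _ hzU hn).smulR (c / a) using 1
    simp only [map_add, map_smul, smul_add, smul_smul]
    rw [div_mul_cancel₀ _ ha, div_mul_eq_mul_div, hcd, mul_div_assoc, div_self ha, mul_one]

theorem St.plane_rank (T : St H U β) {x y : V} (hx : x ∈ U) (hy : y ∈ U) (h : β x y ≠ 0) :
    DualSys (ev p V) (Submodule.span _ {x, y}) (Submodule.span _ {β x, β y}) 2 := by
  have h' : β y x ≠ 0 := by rw [T.skew hx hy]; simpa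
  refine ⟨![x, y], ![(β y x)⁻¹ • β y, (β x y)⁻¹ • β x], ?_, ?_, ?_⟩
  · intro i; fin_cases i <;> exact Submodule.subset_span (by simp)
  · intro i; fin_cases i <;> exact Submodule.smul_mem _ _ (Submodule.subset_span (by simp))
  · intro i j; fin_cases i <;> fin_cases j <;> simp [T.alt x hx, T.alt y hy, h, h']

theorem St.rank_three (T : St H U β) {x y w : V} {g : Module.Dual (ZMod p) V}
    {U₃ : Submodule (ZMod p) V} {E₃ : Submodule (ZMod p) (Module.Dual (ZMod p) V)}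
    (hx : x ∈ U) (hy : y ∈ U) (h : β x y ≠ 0) (hU : x ∈ U₃ ∧ y ∈ U₃ ∧ w ∈ U₃)
    (hE : β x ∈ E₃ ∧ β y ∈ E₃ ∧ g ∈ E₃) (gx : g x = 0) (gy : g y = 0) (gw : g w ≠ 0) :
    DualSys (ev p V) U₃ E₃ 3 := by
  have h' : β y x ≠ 0 := by rw [T.skew hx hy]; simpa
  obtain ⟨w', hw'⟩ : ∃ w', w' = w - (β y w / β y x) • x - (β x w / β x y) • y := ⟨_, rfl⟩
  have e1 : β x w' = 0 := by
    simp only [hw', map_sub, map_smul, T.alt x hx, smul_eq_mul]; field_simp; ring
  have e2 : β y w' = 0 := by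
    simp only [hw', map_sub, map_smul, T.alt y hy, smul_eq_mul]; field_simp; ring
  have e3 : g w' = g w := by simp [hw', gx, gy]
  refine ⟨![x, y, w'], ![(β y x)⁻¹ • β y, (β x y)⁻¹ • β x, (g w)⁻¹ • g], ?_, ?_, ?_⟩
  · intro i
    fin_cases i
    exacts [hU.1, hU.2.1, hw' ▸ U₃.sub_mem (U₃.sub_mem hU.2.2 (U₃.smul_mem _ hU.1)) (U₃.smul_mem _ hU.2.1)]
  · intro i
    fin_cases i
    exacts [E₃.smul_mem _ hE.2.1, E₃.smul_mem _ hE.1, E₃.smul_mem _ hE.2.2]
  · intro i j
    fin_cases i <;> fin_cases j <;>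
      simp [T.alt x hx, T.alt y hy, h, h', e1, e2, e3, gx, gy, gw]

/-- Growth of a state. -/
theorem St.extend (T : St H U β) (hp : Odd p) {w : V} {ψ : Module.Dual (ZMod p) V} {k : ZMod p}
    (hP : Tin H w ψ) (hw : w ∉ U) (hk : k ≠ 0) (heq : ∀ x ∈ U, ψ x = k * β x w)
    (hl : ∃ x ∈ U, β x w ≠ 0) (hne : ∃ x ∈ U, NR U β x) :
    ∃ β', St H (U ⊔ Submodule.span _ {w}) β' ∧ ∀ x ∈ U, β' x = β x := by
  obtain ⟨g, hgw, hgU⟩ := Submodule.exists_dual_map_eq_bot_of_notMem hw inferInstance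
  obtain ⟨g', hg', hg'U⟩ : ∃ g' : Module.Dual (ZMod p) V, g' w = 1 ∧ ∀ x ∈ U, g' x = 0 := by
    refine ⟨(g w)⁻¹ • g, by simp [hgw], fun x hx => ?_⟩
    have : g x ∈ Submodule.map g U := ⟨x, hx, rfl⟩
    rw [hgU, Submodule.mem_bot] at this
    simp [this]
  obtain ⟨β', hβ'⟩ : ∃ β', β' = β + g'.smulRight ((-k⁻¹) • ψ - β w) := ⟨_, rfl⟩
  have bU : ∀ x ∈ U, β' x = β x := fun x hx => by simp [hβ', hg'U x hx]
  have bw : β' w = (-k⁻¹) • ψ := by simp [hβ', hg']
  have bwx : ∀ x ∈ U, β' w x = -β x w := fun x hx => by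
    rw [bw, LinearMap.smul_apply, heq x hx, smul_eq_mul]; field_simp
  have bww : β' w w = 0 := by rw [bw, LinearMap.smul_apply, hP.dot, smul_zero]
  have halt : ∀ z ∈ U ⊔ Submodule.span _ {w}, β' z z = 0 := by
    intro z hz
    obtain ⟨u, hu, a, ha, rfl⟩ := Submodule.mem_sup.1 hz
    obtain ⟨j, rfl⟩ := Submodule.mem_span_singleton.1 ha
    simp only [map_add, map_smul, LinearMap.add_apply, LinearMap.smul_apply, smul_eq_mul,
      bU u hu, T.alt u hu, bwx u hu, bww]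
    ring
  refine ⟨β', ⟨halt, ?_⟩, bU⟩
  have hsk : ∀ {a b : V}, a ∈ U ⊔ Submodule.span _ {w} → b ∈ U ⊔ Submodule.span _ {w} →
      β' b a = -β' a b := fun ha hb => skew_of_alt halt ha hb
  have hwm : w ∈ U ⊔ Submodule.span _ {w} :=
    Submodule.mem_sup_right (Submodule.mem_span_singleton_self w)
  have hUm : ∀ {x}, x ∈ U → x ∈ U ⊔ Submodule.span _ {w} := fun hx => Submodule.mem_sup_left hx
  have Sw : Tin H w (β' w) := bw ▸ hP.smulR (-k⁻¹)
  have SU : ∀ {x}, x ∈ U → NR U β x → Tin H x (β' x) := fun hx hn => by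
    rw [bU _ hx]; exact T.tin _ hx hn
  have case1 : ∀ {u}, u ∈ U → NR U β u → β u w ≠ 0 → ∀ j : ZMod p,
      Tin H (u + j • w) (β' (u + j • w)) := fun {u} hu hn hl j =>
    (SU hu hn).line Sw (hsk (hUm hu) hwm) (by rw [bU u hu]; exact hl) j
  have main : ∀ {u}, u ∈ U → ∀ j : ZMod p, NR (U ⊔ Submodule.span _ {w}) β' (u + j • w) → j ≠ 0 →
      Tin H (u + j • w) (β' (u + j • w)) := by
    intro u hu j hz hj
    by_cases hc : NR U β u ∧ β u w ≠ 0
    · exact case1 hu hc.1 hc.2 j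
    by_cases hzU : ∃ y ∈ U, β' (u + j • w) y ≠ 0
    · obtain ⟨x₀, hx₀, hn₀⟩ := hne
      obtain ⟨y, hy, y1, y2, y3⟩ := exists_three (U := U) hp (f := β' (u + j • w))
        (g := β.flip w) (e := β x₀) hzU hl hn₀
      have hyn : NR U β y := T.nr_right hx₀ hy y3
      have y2' : β y w ≠ 0 := y2
      obtain ⟨i, hi, i1, i2⟩ : ∃ i : ZMod p, i ≠ 0 ∧ NR U β (u - i • y) ∧ β (u - i • y) w ≠ 0 := by
        by_cases hu0 : NR U β u
        · have hl0 : β u w = 0 := by
            by_contra h'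
            exact hc ⟨hu0, h'⟩
          obtain ⟨z, hz', hzne⟩ := hyn
          obtain ⟨i, hi, h'⟩ := exists_scalar hp (β u z) (β y z) (Or.inr hzne)
          exact ⟨i, hi, ⟨z, hz', by simpa using h'⟩, by simp [hl0, hi, y2']⟩
        · obtain ⟨i, hi, h'⟩ := exists_scalar hp (β u w) (β y w) (Or.inr y2')
          obtain ⟨z, hz', hzne⟩ := hyn
          have hu0' : β u z = 0 := by
            by_contra hc'
            exact hu0 ⟨z, hz', hc'⟩
          exact ⟨i, hi, ⟨z, hz', by simp [hu0', hi, hzne]⟩, by simpa using h'⟩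
      have h1 : Tin H ((u - i • y) + j • w) (β' ((u - i • y) + j • w)) :=
        case1 (U.sub_mem hu (U.smul_mem _ hy)) i1 i2 j
      have hm : (u - i • y) + j • w ∈ U ⊔ Submodule.span _ {w} :=
        add_mem (hUm (U.sub_mem hu (U.smul_mem _ hy))) (Submodule.smul_mem _ _ hwm)
      have h2 := h1.line (SU hy hyn) (hsk hm (hUm hy)) (by
        have : (u - i • y) + j • w = (u + j • w) - i • y := by abel
        rw [this, map_sub, map_smul, LinearMap.sub_apply, LinearMap.smul_apply, bU y hy,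
          T.alt y hy, smul_zero, sub_zero]
        exact y1) i
      rwa [show (u - i • y) + j • w + i • y = u + j • w by abel] at h2
    · exfalso
      push Not at hzU
      obtain ⟨x, hx, hxw⟩ := hl
      have h1 := hzU x hx
      rw [map_add, map_smul, LinearMap.add_apply, LinearMap.smul_apply, bU u hu, bwx x hx,
        smul_eq_mul] at h1
      have hn : NR U β u := ⟨x, hx, fun h0 => by
        rw [h0, zero_add, mul_eq_zero, neg_eq_zero] at h1
        exact h1.elim hj hxw⟩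
      obtain ⟨b, hb, hbne⟩ := hz
      obtain ⟨u', hu', a, ha, rfl⟩ := Submodule.mem_sup.1 hb
      obtain ⟨l, rfl⟩ := Submodule.mem_span_singleton.1 ha
      refine hc ⟨hn, fun h0 => hbne ?_⟩
      rw [map_add, map_smul, hzU u' hu', map_add, map_smul, LinearMap.add_apply,
        LinearMap.smul_apply, bU u hu, h0, bww]
      simp
  intro z hz hn
  obtain ⟨u, hu, a, ha, rfl⟩ := Submodule.mem_sup.1 hz
  obtain ⟨j, rfl⟩ := Submodule.mem_span_singleton.1 ha
  by_cases hj : j = 0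
  · subst hj
    rw [zero_smul, add_zero] at hn ⊢
    by_cases hu0 : NR U β u
    · exact SU hu hu0
    · obtain ⟨b, hb, hbne⟩ := hn
      obtain ⟨u', hu', a, ha, rfl⟩ := Submodule.mem_sup.1 hb
      obtain ⟨l, rfl⟩ := Submodule.mem_span_singleton.1 ha
      have hu0' : β u u' = 0 := by
        by_contra hc'
        exact hu0 ⟨u', hu', hc'⟩
      have hlu : β u w ≠ 0 := fun h0 => hbne (by
        rw [map_add, map_smul, bU u hu, h0, hu0']; simp)
      have h1 : Tin H (u + (1 : ZMod p) • w) (β' (u + (1 : ZMod p) • w)) := by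
        refine main hu 1 ⟨w, hwm, ?_⟩ one_ne_zero
        rw [map_add, map_smul, LinearMap.add_apply, LinearMap.smul_apply, bU u hu, bww]
        simpa
      have h2 := h1.line Sw (hsk (add_mem (hUm hu) (Submodule.smul_mem _ _ hwm)) hwm) (by
        rw [map_add, map_smul, LinearMap.add_apply, LinearMap.smul_apply, bU u hu, bww]
        simpa) (-1)
      rwa [show u + (1 : ZMod p) • w + (-1 : ZMod p) • w = u by module] at h2
  · exact main hu j hn hj

end Cfsg.Agent.OddTrans
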