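import Cfsg.Agent.Lib.OddTrans.Basic

/-!
The growth calculus of closed pairs for a relation with the commutator rule.
-/

set_option autoImplicit false

namespace Cfsg.Agent.OddTrans

variable {F : Type*} [Field F] {M N : Type*} [AddCommGroup M] [Module F M] [AddCommGroup N]
  [Module F N]

/-- A relation closed under the transvection rules. -/
structure Sys (b : M →ₗ[F] N →ₗ[F] F) (P : M → N → Prop) : Prop where
  addL : ∀ {x y f}, P x f → P y f → P (x + y) f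
  addR : ∀ {x f g}, P x f → P x g → P x (f + g)
  smulL : ∀ {x f} (c : F), P x f → P (c • x) f
  smulR : ∀ {x f} (c : F), P x f → P x (c • f)
  comm : ∀ {v φ w ψ}, P v φ → P w ψ → b v ψ = 0 → b w φ ≠ 0 → P v ψ

variable {b : M →ₗ[F] N →ₗ[F] F} {P : M → N → Prop}

theorem Sys.flip (S : Sys b P) : Sys b.flip (fun f x => P x f) where
  addL := S.addR
  addR := S.addL
  smulL := S.smulR
  smulR := S.smulL
  comm := fun h1 h2 h3 h4 => S.comm h2 h1 h3 h4

/-- Closed pairs. -/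
def Cl (b : M →ₗ[F] N →ₗ[F] F) (P : M → N → Prop) (U : Submodule F M) (E : Submodule F N) : Prop :=
  ∀ x ∈ U, ∀ e ∈ E, b x e = 0 → P x e

theorem Cl.flip {U : Submodule F M} {E : Submodule F N} (h : Cl b P U E) :
    Cl b.flip (fun f x => P x f) E U := fun e he x hx h0 => h x hx e he h0

/-- A pairing of rank at least `n`. -/
def DualSys (b : M →ₗ[F] N →ₗ[F] F) (U : Submodule F M) (E : Submodule F N) (n : ℕ) : Prop :=
  ∃ (x : Fin n → M) (f : Fin n → N), (∀ i, x i ∈ U) ∧ (∀ i, f i ∈ E) ∧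
    ∀ i j, b (x i) (f j) = if i = j then 1 else 0

theorem DualSys.flip {U : Submodule F M} {E : Submodule F N} {n : ℕ} (h : DualSys b U E n) :
    DualSys b.flip E U n := by
  obtain ⟨x, f, hx, hf, h⟩ := h
  exact ⟨f, x, hf, hx, fun i j => by rw [LinearMap.flip_apply, h]; simp [eq_comm]⟩

theorem DualSys.mono {U U' : Submodule F M} {E E' : Submodule F N} {n : ℕ} (h : DualSys b U E n)
    (hU : U ≤ U') (hE : E ≤ E') : DualSys b U' E' n := by
  obtain ⟨x, f, hx, hf, h⟩ := h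
  exact ⟨x, f, fun i => hU (hx i), fun i => hE (hf i), h⟩

theorem DualSys.exists_kill {U : Submodule F M} {E : Submodule F N} {n m : ℕ}
    (h : DualSys b U E n) (hm : m < n) (z : Fin m → M) :
    ∃ y ∈ U, ∃ e ∈ E, (∀ i, b (z i) e = 0) ∧ b y e ≠ 0 := by
  obtain ⟨x, f, hx, hf, h⟩ := h
  obtain ⟨T, hT⟩ : ∃ T : (Fin n → F) →ₗ[F] (Fin m → F),
      T = LinearMap.pi fun i => (b (z i)) ∘ₗ Fintype.linearCombination F f := ⟨_, rfl⟩
  have hk : LinearMap.ker T ≠ ⊥ := LinearMap.ker_ne_bot_of_finrank_lt (by simpa using hm)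
  obtain ⟨c, hc, hc0⟩ := Submodule.exists_mem_ne_zero_of_ne_bot hk
  obtain ⟨j, hj⟩ : ∃ j, c j ≠ 0 := by
    by_contra hne
    push Not at hne
    exact hc0 (funext hne)
  refine ⟨x j, hx j, Fintype.linearCombination F f c, ?_, fun i => ?_, ?_⟩
  · rw [Fintype.linearCombination_apply]
    exact E.sum_mem fun i _ => E.smul_mem _ (hf i)
  · have := congrFun (LinearMap.mem_ker.1 hc) i
    simpa [hT] using this
  · rw [Fintype.linearCombination_apply, map_sum]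
    simp [h, hj]

/-- Rank at least two, quantified form. -/
theorem DualSys.two {U : Submodule F M} {E : Submodule F N} {n : ℕ} (h : DualSys b U E n)
    (hn : 2 ≤ n) (x : M) : ∃ y ∈ U, ∃ e ∈ E, b x e = 0 ∧ b y e ≠ 0 := by
  obtain ⟨y, hy, e, he, h1, h2⟩ := h.exists_kill (m := 1) (by omega) ![x]
  exact ⟨y, hy, e, he, h1 0, h2⟩

variable {U : Submodule F M} {E : Submodule F N}

theorem Sys.grow_aux (S : Sys b P) (hC : Cl b P U E) {x₀ y : M} {ψ e e₁ : N} (c : F) (hx : x₀ ∈ U)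
    (hP : P x₀ ψ) (hy : y ∈ U) (he₁ : e₁ ∈ E) (h₁ : b y e₁ = 0) (h₂ : b x₀ e₁ ≠ 0) (he : e ∈ E)
    (h : b y (e + c • ψ) = 0) : P y (e + c • ψ) := by
  rw [map_add, map_smul, smul_eq_mul] at h
  by_cases hA : ∃ e₂ ∈ E, b x₀ e₂ = 0 ∧ b y e₂ ≠ 0
  · obtain ⟨e₂, he₂, g1, g2⟩ := hA
    obtain ⟨s, hs⟩ : ∃ s, s = -(c * b y ψ) / b y e₂ := ⟨_, rfl⟩
    have hφ : P x₀ (c • ψ + s • e₂) := S.addR (S.smulR c hP) (S.smulR s (hC x₀ hx e₂ he₂ g1))
    have h0 : b y (c • ψ + s • e₂) = 0 := by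
      rw [map_add, map_smul, map_smul, smul_eq_mul, smul_eq_mul, hs]
      field_simp
      ring
    have h3 : P y (c • ψ + s • e₂) := S.comm (hC y hy e₁ he₁ h₁) hφ h0 h₂
    have h4 : P y (e - s • e₂) := by
      refine hC y hy _ (E.sub_mem he (E.smul_mem _ he₂)) ?_
      rw [map_sub, map_smul, smul_eq_mul, hs]
      field_simp
      linear_combination h
    have := S.addR h4 h3
    convert this using 1
    abel
  · push Not at hA
    have h0 : b y e = 0 := by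
      have := hA (e - (b x₀ e / b x₀ e₁) • e₁) (E.sub_mem he (E.smul_mem _ he₁))
        (by rw [map_sub, map_smul, smul_eq_mul]; field_simp; ring)
      rw [map_sub, map_smul, h₁, smul_zero, sub_zero] at this
      exact this
    have h0' : b y (c • ψ) = 0 := by rw [map_smul, smul_eq_mul]; linear_combination h - h0
    exact S.addR (hC y hy e he h0) (S.comm (hC y hy e₁ he₁ h₁) (S.smulR c hP) h0' h₂)

/-- The growth lemma. -/
theorem Sys.grow (S : Sys b P) (hC : Cl b P U E) (hR : ∀ x : M, ∃ y ∈ U, ∃ e ∈ E, b x e = 0 ∧ b y e ≠ 0)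
    {x₀ : M} {ψ : N} (hx : x₀ ∈ U) (hP : P x₀ ψ) (h₀ : ∃ e ∈ E, b x₀ e ≠ 0) :
    Cl b P U (E ⊔ Submodule.span F {ψ}) := by
  intro y hy φ hφ h
  obtain ⟨e, he, g, hg, rfl⟩ := Submodule.mem_sup.1 hφ
  obtain ⟨c, rfl⟩ := Submodule.mem_span_singleton.1 hg
  by_cases hY : ∃ e₁ ∈ E, b y e₁ = 0 ∧ b x₀ e₁ ≠ 0
  · obtain ⟨e₁, he₁, h₁, h₂⟩ := hY
    exact S.grow_aux hC c hx hP hy he₁ h₁ h₂ he h
  push Not at hY
  obtain ⟨e₀, he₀, h00⟩ := h₀
  obtain ⟨y₁, hy₁, d, hd, d1, d2⟩ := hR x₀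
  have hyd : b y d = 0 := by
    have hy0 : b y e₀ ≠ 0 := fun h0 => h00 (hY e₀ he₀ h0)
    have := hY (d - (b y d / b y e₀) • e₀) (E.sub_mem hd (E.smul_mem _ he₀))
      (by rw [map_sub, map_smul, smul_eq_mul]; field_simp; ring)
    rw [map_sub, map_smul, d1, zero_sub, smul_eq_mul, neg_eq_zero, mul_eq_zero,
      div_eq_zero_iff] at this
    rcases this with (h' | h') | h'
    exacts [h', absurd h' hy0, absurd h' h00]
  obtain ⟨s, hs⟩ : ∃ s, s = -(b y₁ ψ) / b y₁ d := ⟨_, rfl⟩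
  have hf0 : b y₁ (s • d + (1 : F) • ψ) = 0 := by
    rw [map_add, map_smul, map_smul, smul_eq_mul, smul_eq_mul, hs]
    field_simp
    ring
  have hψ₁ : P y₁ (s • d + (1 : F) • ψ) := by
    refine S.grow_aux hC 1 hx hP hy₁ (E.sub_mem he₀ (E.smul_mem (b y₁ e₀ / b y₁ d) hd)) ?_ ?_
      (E.smul_mem s hd) hf0
    · rw [map_sub, map_smul, smul_eq_mul]; field_simp; ring
    · rw [map_sub, map_smul, d1, smul_zero, sub_zero]; exact h00
  have e' : e + c • ψ = (e - (c * s) • d) + c • (s • d + (1 : F) • ψ) := by module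
  rw [e'] at h ⊢
  exact S.grow_aux hC c hy₁ hψ₁ hy hd hyd d2 (E.sub_mem he (E.smul_mem _ hd)) h

/-- The dual growth lemma. -/
theorem Sys.growL (S : Sys b P) (hC : Cl b P U E) (hR : ∀ f : N, ∃ e ∈ E, ∃ y ∈ U, b y f = 0 ∧ b y e ≠ 0)
    {w : M} {e₀ : N} (he : e₀ ∈ E) (hP : P w e₀) (h₀ : ∃ x ∈ U, b x e₀ ≠ 0) :
    Cl b P (U ⊔ Submodule.span F {w}) E :=
  fun x hx e he' h0 => (S.flip.grow hC.flip hR he hP h₀) e he' x hx h0

end Cfsg.Agent.OddTrans
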